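import Groth.Agent.Lib.PicPn.TrivialLocus
import Groth.Agent.Lib.DGen9.FibEuler
import Groth.Agent.Lib.CBC10.ModelExists
import Groth.Agent.Lib.LimShf14.Pic

/-!
# The locus of trivial fibres is closed over any base
-/

set_option autoImplicit false
set_option linter.style.haveILetI false
set_option backward.isDefEq.respectTransparency false

universe u

open CategoryTheory CategoryTheory.Limits AlgebraicGeometry TopologicalSpace Opposite

noncomputable section

namespace Groth.Agent.Seesaw22

section field

open FlatCxLib CBC10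

variable {A : Type u} [CommRing A] (P : ChainComplex (ModuleCat.{u} A) ℤ)
  [∀ i, Module.Finite A (P.X i)] [∀ i, Module.Flat A (P.X i)]

/-- The homology of a base change to a field is finite-dimensional, over any ring. -/
theorem finite_T_field (K : Type u) [Field K] [Algebra A K] (p : ℤ) :
    Module.Finite K ((CohIII.bcCx (algebraMap A K) P).homology p) := by
  haveI := fun i : ℤ => flat_X_baseChange K P i
  haveI : ∀ i, Module.Finite K ((CohIII.bcCx (algebraMap A K) P).X i) := fun i =>
    Module.Finite.equiv (extEquiv (B := K) (P.X i)).symm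
  haveI := finite_H (CohIII.bcCx (algebraMap A K) P) p
  exact Module.Finite.equiv (unitEquiv (CohIII.bcCx (algebraMap A K) P) p)

theorem subsingleton_T_field_iff (K : Type u) [Field K] [Algebra A K] (p : ℤ) :
    Subsingleton (CohIII.T P p (ModuleCat.of A K)) ↔
      CohIII.dRank P p (PrimeSpectrum.comap (algebraMap A K) ⟨⊥, Ideal.isPrime_bot⟩) = 0 := by
  haveI := finite_T_field P K p
  rw [← dRank_bcCx P K p ⟨⊥, Ideal.isPrime_bot⟩]
  unfold CohIII.dRank
  rw [finrank_homology_field, Module.finrank_zero_iff]
  exact (tensorBcEquiv P K (sub_add_cancel p 1)).toEquiv.subsingleton_congr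

end field

variable {X Y : Scheme.{u}} (f : X ⟶ Y) [IsProper f] [Flat f] [LocallyOfFinitePresentation f]

/-- The locus where the fibre has nonzero sections is closed, over any base. -/
theorem isClosed_nontrivial_fiber {L : X.Modules} (hL : PicF.IsInvertible L) :
    IsClosed {y : Y | Nontrivial (CohIII.fiberH f L y 0)} := by
  haveI hq : Coh.IsQCoh L := Twist.isQCoh_of_isInvertible hL
  have hfl : FlatMod.IsFlatOver f L := DPerf.isFlatOver_of_isFlat f (M := L) fun x =>
    KFlat.Sch.isFlat_of_isFinLocFree (M2.isFinLocFree_of_isInvertible hL) x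
  rw [← isOpen_compl_iff, isOpen_iff_mem_nhds]
  intro y hy
  obtain ⟨U, -, M, hyU⟩ := CBC10.exists_model_at f L (LimShf14.isFP_of_isInvertible hL) hfl (U := ⊤) (s := y) trivial
  haveI : ∀ i, Module.Flat Γ(Y, U) (M.P.X i) := fun i => Module.Flat.of_projective
  have hy' : Subsingleton (CohIII.fiberH f L y 0) := not_nontrivial_iff_subsingleton.1 hy
  have hP := M.computes
  have h0 : CohIII.dRank M.P (-((0 : ℕ) : ℤ)) (M.isAffine.primeIdealOf ⟨y, hyU⟩) = 0 :=
    (hP.fiberRank_eq hyU hq 0).symm.trans (CBC10.fiberRank_eq_zero_of_subsingleton hy')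
  have hnear := hP.eventually_fiberRank_eq hq hyU 0 (by
    filter_upwards [FibEuler9.upperSemicontinuous_dRank M.P (-((0 : ℕ) : ℤ)) (M.isAffine.primeIdealOf ⟨y, hyU⟩) 1
      (show CohIII.dRank M.P _ _ < 1 by rw [h0]; exact Nat.one_pos)] with z hz
    omega)
  filter_upwards [hnear, U.isOpen.mem_nhds hyU] with z hz hzU
  rw [CBC10.fiberRank_eq_zero_of_subsingleton hy'] at hz
  refine not_nontrivial_iff_subsingleton.2 ?_
  letI := CBC10.algEval (U := U) hzU
  refine (hP.subsingleton_fiberH_iff hzU hq 0).2 ((subsingleton_T_field_iff M.P (Y.residueField z) _).2 ?_)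
  rw [show PrimeSpectrum.comap (algebraMap Γ(Y, U) (Y.residueField z)) ⟨⊥, Ideal.isPrime_bot⟩ =
    M.isAffine.primeIdealOf ⟨z, hzU⟩ from CBC10.comap_evaluation (hU := M.isAffine) hzU]
  exact (hP.fiberRank_eq hzU hq 0).symm.trans hz

/-- The locus of trivial fibres is closed when the fibres are integral. -/
theorem isClosed_trivial (hint : ∀ y : Y, IsIntegral (f.fiber y)) {L : X.Modules} (hL : PicF.IsInvertible L) :
    IsClosed {y : Y | Nonempty ((Scheme.Modules.pullback (f.fiberι y)).obj L ≅ Coh.structureModule (f.fiber y))} := by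
  obtain ⟨D, hD, ⟨e⟩⟩ := M2.exists_inverse hL
  have h : {y : Y | Nonempty ((Scheme.Modules.pullback (f.fiberι y)).obj L ≅ Coh.structureModule (f.fiber y))} =
      {y | Nontrivial (CohIII.fiberH f L y 0)} ∩ {y | Nontrivial (CohIII.fiberH f D y 0)} := Set.ext fun y =>
    haveI := hint y
    PicPn.fibre_trivial_iff f y hL hD e
  rw [h]
  exact (isClosed_nontrivial_fiber f hL).inter (isClosed_nontrivial_fiber f hD)

/-- The composite of two geometrically integral flat finitely presented families. -/
theorem geometricallyIntegral_prod {S X Y : Scheme.{u}} (pX : X ⟶ S) (pY : Y ⟶ S) [GeometricallyIntegral pX]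
    [GeometricallyIntegral pY] [Flat pX] [Flat pY] [LocallyOfFinitePresentation pX] [LocallyOfFinitePresentation pY] :
    GeometricallyIntegral (pullback.fst pX pY ≫ pX) := by
  refine ⟨fun L _ x W p₁ p₂ hW ↦ ?_⟩
  haveI : UniversallyOpen (pullback.fst pX pY) := inferInstance
  haveI : IsLocallyNoetherian (pullback pX x) := LocallyOfFiniteType.isLocallyNoetherian (pullback.snd pX x)
  haveI : IsIntegral (pullback pX x) := GeometricallyIntegral.isIntegral_of_subsingleton (pullback.snd pX x)
  haveI : IsIntegral (pullback (pullback.fst pX pY) (pullback.fst pX x)) := inferInstance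
  let e := (pullbackRightPullbackFstIso pX x (pullback.fst pX pY)) ≪≫ hW.isoPullback.symm
  haveI : Nonempty W := ⟨e.hom (Nonempty.some inferInstance)⟩
  exact isIntegral_of_isOpenImmersion e.inv

end Groth.Agent.Seesaw22
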