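import Groth.Agent.Lib.Seesaw22.Prod
import Groth.Agent.Lib.AbRigid.Connected
import Groth.Agent.Lib.TensorMod.PicLaw
import Groth.Agent.Lib.TensorMod.PullTensor

/-!
# The theorem of the cube for abelian schemes over any base
-/

set_option autoImplicit false
set_option linter.style.haveILetI false
set_option linter.unusedSectionVars false
set_option backward.isDefEq.respectTransparency false
set_option maxHeartbeats 1000000

universe u

open CategoryTheory Limits MonoidalCategory CartesianMonoidalCategory AlgebraicGeometry TopologicalSpace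

open scoped MonObj GrpObj

noncomputable section

namespace Groth.Agent.Seesaw22

open CubeField

noncomputable local instance instLawSeesaw (Y : Scheme.{u}) : PicGrp.Law Y := M2.law Y

variable {S : Scheme.{u}} {A : Over S}

/-- Connected fibres and reduced fibres of a group scheme are geometrically integral. -/
theorem geometricallyIntegral_abSch [GrpObj A] [IsProper A.hom] [GeometricallyReduced A.hom]
    [GeometricallyConnected A.hom] : GeometricallyIntegral A.hom := by
  refine (GeometricallyIntegral.iff_geometricallyIntegral_fiber _).2 fun s => ?_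
  let F := Over.pullback (S.fromSpecResidueField s)
  let Y := F.obj A
  letI : GrpObj Y := Functor.grpObjObj
  haveI : IsProper Y.hom := inferInstanceAs (IsProper (pullback.snd A.hom (S.fromSpecResidueField s)))
  haveI : GeometricallyReduced Y.hom :=
    inferInstanceAs (GeometricallyReduced (pullback.snd A.hom (S.fromSpecResidueField s)))
  haveI : ConnectedSpace Y.left := inferInstanceAs (ConnectedSpace (A.hom.fiber s))
  exact AbRigid.geometricallyIntegral_of_connected Y

/-- The class of the pullback of `L` along a morphism to `A`. -/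
def cls (L : A.left.Modules) (hL : PicF.IsInvertible L) {V : Over S} (f : V ⟶ A) : PicLoc.PicSet V.left :=
  PicGrp.cls ((Scheme.Modules.pullback f.left).obj L) (PicLoc.isInvertible_pullback _ hL)

variable {L : A.left.Modules} {hL : PicF.IsInvertible L}

theorem pullHom_cls {V W : Over S} (s : W ⟶ V) (f : V ⟶ A) :
    PicGrp.pullHom s.left (M2.pullMul _) (cls L hL f) = cls L hL (s ≫ f) := by
  apply Subtype.ext
  rw [PicGrp.pullHom_apply_val]
  show PicF.pullCl s.left (PicF.cl ((Scheme.Modules.pullback f.left).obj L)) = _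
  rw [PicLoc.pullCl_cl]
  exact M2.cl_eq_of_iso ((Scheme.Modules.pullbackComp s.left f.left).app L)

theorem cls_id : cls L hL (𝟙 A) = PicGrp.cls L hL :=
  Subtype.ext (M2.cl_eq_of_iso ((Scheme.Modules.pullbackId A.left).app L))

variable [GrpObj A] [IsProper A.hom] [Flat A.hom] [LocallyOfFinitePresentation A.hom] [GeometricallyIntegral A.hom]

set_option maxHeartbeats 2000000 in
/-- A module on `(A × A) × A` which is trivial on the three slices through the unit is trivial. -/
theorem isTriv_cube_abSch (N : ((A ⊗ A) ⊗ A).left.Modules) (hN : PicF.IsInvertible N)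
    (h₁ : IsTriv ((Scheme.Modules.pullback (lift (lift (1 : A ⊗ A ⟶ A) (fst A A)) (snd A A)).left).obj N))
    (h₂ : IsTriv ((Scheme.Modules.pullback (lift (lift (fst A A) (1 : A ⊗ A ⟶ A)) (snd A A)).left).obj N))
    (h₃ : IsTriv ((Scheme.Modules.pullback (lift (lift (fst A A) (snd A A)) (1 : A ⊗ A ⟶ A)).left).obj N)) :
    IsTriv N := by
  let e : S ⟶ A.left := η[A].left
  have he : e ≫ A.hom = 𝟙 S := Over.w η[A]
  have hone : ∀ {V : Over S}, (1 : V ⟶ A).left = V.hom ≫ e := fun {V} => rfl
  have hτ : ∀ b, IsTriv ((Scheme.Modules.pullback (sliceJ A.hom A.hom A.hom e he e he b)).obj N) := by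
    rintro (_ | _)
    · let u : pullback (slX A.hom A.hom e he ≫ pP A.hom A.hom) A.hom ⟶ (A ⊗ A).left :=
        pullback.lift (pullback.fst _ _) (pullback.snd _ _) (by
          rw [← pullback.condition]; exact congrArg (pullback.fst _ _ ≫ ·) (slX_pP A.hom A.hom e he).symm)
      refine isTriv_of_eq ?_ ((isTriv_comp_iff u _ N).1 (h₂.pullback u))
      apply pullback.hom_ext
      · apply pullback.hom_ext <;> simp [u, sliceJ, sliceT, hone, reassoc_of% (slX_pP A.hom A.hom e he)]
      · simp [u, sliceJ, sliceT]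
    · let u : pullback (slY A.hom A.hom e he ≫ pP A.hom A.hom) A.hom ⟶ (A ⊗ A).left :=
        pullback.lift (pullback.fst _ _) (pullback.snd _ _) (by
          rw [← pullback.condition]; exact congrArg (pullback.fst _ _ ≫ ·) (slY_pP A.hom A.hom e he).symm)
      refine isTriv_of_eq ?_ ((isTriv_comp_iff u _ N).1 (h₁.pullback u))
      apply pullback.hom_ext
      · apply pullback.hom_ext <;> simp [u, sliceJ, sliceT, hone, reassoc_of% (slY_pP A.hom A.hom e he)]
      · simp [u, sliceJ, sliceT]
  refine cube_of_fibres A.hom A.hom A.hom e he e he hN hτ fun z => ?_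
  -- the fibre over a point of the unit section
  let π := proj A.hom A.hom A.hom
  let s : S := A.hom z
  let z₀ : A.left := e s
  have hz₀ : A.hom z₀ = s := by
    show (e ≫ A.hom) s = s
    rw [he]; rfl
  have h0 : IsTriv ((Scheme.Modules.pullback (π.fiberι z₀)).obj N) := by
    have hbase : A.left.fromSpecResidueField z₀ ≫ A.hom ≫ e = A.left.fromSpecResidueField z₀ := by
      haveI : IsIso (e.residueFieldMap s) := by
        refine (ConcreteCategory.isIso_iff_bijective _).2 ⟨(e.residueFieldMap s).hom.injective, ?_⟩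
        haveI : IsIso (A.hom.residueFieldMap (e s) ≫ e.residueFieldMap s) := by
          rw [← Scheme.residueFieldMap_comp, Scheme.Hom.residueFieldMap_congr he, Scheme.residueFieldMap_id]
          exact @IsIso.comp_isIso _ _ _ _ _ _ _ inferInstance (IsIso.id _)
        have h := (ConcreteCategory.bijective_of_isIso (A.hom.residueFieldMap (e s) ≫ e.residueFieldMap s)).2
        intro b
        obtain ⟨a, ha⟩ := h b
        exact ⟨A.hom.residueFieldMap (e s) a, ha⟩
      rw [← cancel_epi (Spec.map (e.residueFieldMap s))]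
      show _ = Spec.map (e.residueFieldMap s) ≫ A.left.fromSpecResidueField (e s)
      rw [← Category.assoc, Scheme.Hom.SpecMap_residueFieldMap_fromSpecResidueField, Category.assoc, ← Category.assoc e,
        he, Category.id_comp]
    let u : π.fiber z₀ ⟶ (A ⊗ A).left :=
      π.fiberι z₀ ≫ pullback.fst (pP A.hom A.hom) A.hom
    refine isTriv_of_eq ?_ ((isTriv_comp_iff u _ N).1 (h₃.pullback u))
    apply pullback.hom_ext
    · apply pullback.hom_ext <;> simp [u]
    · have h4 : π.fiberι z₀ ≫ pullback.snd (pP A.hom A.hom) A.hom ≫ A.hom ≫ e =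
          π.fiberι z₀ ≫ pullback.snd (pP A.hom A.hom) A.hom := by
        rw [← Category.assoc, ← Category.assoc, show π.fiberι z₀ ≫ pullback.snd (pP A.hom A.hom) A.hom =
          π.fiberToSpecResidueField z₀ ≫ A.left.fromSpecResidueField z₀ from pullback.condition,
          Category.assoc, Category.assoc, hbase]
      refine Eq.trans ?_ h4
      show (u ≫ _) ≫ pullback.snd (pP A.hom A.hom) A.hom = _
      rw [Category.assoc, show (lift (lift (fst A A) (snd A A)) (1 : A ⊗ A ⟶ A)).left ≫
        pullback.snd (pP A.hom A.hom) A.hom = (A ⊗ A).hom ≫ e from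
          (congrArg Over.Hom.left (lift_snd (lift (fst A A) (snd A A)) (1 : A ⊗ A ⟶ A))).trans hone]
      show (π.fiberι z₀ ≫ pullback.fst (pP A.hom A.hom) A.hom) ≫ pP A.hom A.hom ≫ e = _
      rw [Category.assoc, pullback.condition_assoc]
  obtain ⟨U, hU, hzU, hUtriv⟩ := cube_clopen A.hom A.hom A.hom e he e he hN hτ z₀ h0
  have hz : z ∈ U := by
    haveI : ConnectedSpace (A.hom.fiber s) :=
      haveI := CubeField.geometricallyConnected_of_irreducible A.hom
      inferInstance
    have hmem : ∀ w : A.left, A.hom w = s → ∃ p, A.hom.fiberι s p = w := fun w hw => by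
      have h5 : w ∈ A.hom ⁻¹' {s} := hw
      rw [← A.hom.range_fiberι s] at h5
      exact h5
    obtain ⟨p, hp⟩ := hmem z rfl
    obtain ⟨p₀, hp₀⟩ := hmem z₀ hz₀
    have hcl : IsClopen ((A.hom.fiberι s) ⁻¹' (U : Set A.left)) :=
      ⟨hU.preimage (A.hom.fiberι s).continuous, U.isOpen.preimage (A.hom.fiberι s).continuous⟩
    have huniv := hcl.eq_univ ⟨p₀, show A.hom.fiberι s p₀ ∈ U by rw [hp₀]; exact hzU⟩
    have h6 : p ∈ (A.hom.fiberι s) ⁻¹' (U : Set A.left) := huniv ▸ Set.mem_univ p
    rw [← hp]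
    exact h6
  have hrange : Set.range (π.fiberι z) ⊆ Set.range (π ⁻¹ᵁ U).ι := by
    rw [Scheme.Opens.range_ι]
    rintro _ ⟨p, rfl⟩
    show π (π.fiberι z p) ∈ U
    rw [show π (π.fiberι z p) = z from (π.range_fiberι z).le ⟨p, rfl⟩]
    exact hz
  exact isTriv_of_eq (IsOpenImmersion.lift_fac (π ⁻¹ᵁ U).ι _ hrange)
    ((isTriv_comp_iff _ _ N).1 (hUtriv.pullback _))

/-- The theorem of the cube, for classes. -/
theorem cube {V : Over S} (f g h : V ⟶ A) :
    cls L hL (f * g * h) * cls L hL f * cls L hL g * cls L hL h =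
      cls L hL (f * g) * cls L hL (f * h) * cls L hL (g * h) * cls L hL (1 : V ⟶ A) := by
  let p₁ : (A ⊗ A) ⊗ A ⟶ A := fst _ _ ≫ fst _ _
  let p₂ : (A ⊗ A) ⊗ A ⟶ A := fst _ _ ≫ snd _ _
  let p₃ : (A ⊗ A) ⊗ A ⟶ A := snd _ _
  let M : PicLoc.PicSet ((A ⊗ A) ⊗ A).left :=
    cls L hL (p₁ * p₂ * p₃) * cls L hL p₁ * cls L hL p₂ * cls L hL p₃ *
      (cls L hL (p₁ * p₂) * cls L hL (p₁ * p₃) * cls L hL (p₂ * p₃) * cls L hL (1 : (A ⊗ A) ⊗ A ⟶ A))⁻¹
  have key : ∀ {W : Over S} (s : W ⟶ (A ⊗ A) ⊗ A) (a b c : W ⟶ A),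
      s ≫ p₁ = a → s ≫ p₂ = b → s ≫ p₃ = c →
      PicGrp.pullHom s.left (M2.pullMul _) M = cls L hL (a * b * c) * cls L hL a * cls L hL b * cls L hL c *
        (cls L hL (a * b) * cls L hL (a * c) * cls L hL (b * c) * cls L hL (1 : W ⟶ A))⁻¹ :=
    fun {W} s a b c ha hb hc => by
      simp only [M, map_mul, map_inv, pullHom_cls, MonObj.comp_mul, MonObj.comp_one, ha, hb, hc]
  obtain ⟨N, hN, hMN⟩ := PicGrp.exists_eq_cls M
  have htriv : ∀ {W : Over S} (s : W ⟶ (A ⊗ A) ⊗ A),
      PicGrp.pullHom s.left (M2.pullMul _) M = 1 → IsTriv ((Scheme.Modules.pullback s.left).obj N) :=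
    fun {W} s hs => by
      rw [hMN, PicGrp.pullHom_cls, PicGrp.cls_eq_one_iff] at hs
      exact hs
  have hM : M = 1 := by
    rw [hMN, PicGrp.cls_eq_one_iff]
    refine isTriv_cube_abSch N hN (htriv _ ?_) (htriv _ ?_) (htriv _ ?_)
    · rw [key _ 1 (fst A A) (snd A A) (by simp [p₁]) (by simp [p₂]) (by simp [p₃])]
      simp only [one_mul, mul_one]
      exact mul_inv_eq_one.2 (by ac_rfl)
    · rw [key _ (fst A A) 1 (snd A A) (by simp [p₁]) (by simp [p₂]) (by simp [p₃])]
      simp only [one_mul, mul_one]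
      exact mul_inv_eq_one.2 (by ac_rfl)
    · rw [key _ (fst A A) (snd A A) 1 (by simp [p₁]) (by simp [p₂]) (by simp [p₃])]
      simp only [one_mul, mul_one]
      exact mul_inv_eq_one.2 (by ac_rfl)
  have h1 := key (lift (lift f g) h) f g h (by simp [p₁]) (by simp [p₂]) (by simp [p₃])
  rw [hM, map_one, eq_comm, mul_inv_eq_one] at h1
  exact h1

end Groth.Agent.Seesaw22
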