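import Groth.Agent.Lib.Seesaw22.AbCube

/-!
# Pulling back by multiplication on an abelian scheme
-/

set_option autoImplicit false
set_option linter.style.haveILetI false
set_option linter.unusedSectionVars false
set_option backward.isDefEq.respectTransparency false
set_option maxHeartbeats 1000000

universe u

open CategoryTheory Limits MonoidalCategory CartesianMonoidalCategory AlgebraicGeometry TopologicalSpace

open scoped MonObj GrpObj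

noncomputable section

namespace Groth.Agent.Seesaw22

noncomputable local instance instLawPow (Y : Scheme.{u}) : PicGrp.Law Y := M2.law Y

/-- The quadratic recursion. -/
theorem quad_rec {G : Type*} [CommGroup G] (q : ℕ → G) (a b : G) (h0 : q 0 = 1) (h1 : q 1 = a)
    (hrec : ∀ n, q (n + 2) * q n = q (n + 1) ^ 2 * a * b) (n : ℕ) :
    q n = a ^ (((n : ℤ) ^ 2 + n) / 2) * b ^ (((n : ℤ) ^ 2 - n) / 2) := by
  induction n using Nat.twoStepInduction with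
  | zero => simp [h0]
  | one => simp [h1]
  | more n ih0 ih1 =>
    obtain ⟨t, ht⟩ := Int.even_mul_succ_self (n : ℤ)
    have e0 : ((n : ℤ) ^ 2 + n) / 2 = t := by
      rw [show (n : ℤ) ^ 2 + n = t * 2 by linarith [ht, sq (n : ℤ)], Int.mul_ediv_cancel _ two_ne_zero]
    have e0' : ((n : ℤ) ^ 2 - n) / 2 = t - n := by
      rw [show (n : ℤ) ^ 2 - n = (t - n) * 2 by linarith [ht, sq (n : ℤ)], Int.mul_ediv_cancel _ two_ne_zero]
    have e1 : (((n + 1 : ℕ) : ℤ) ^ 2 + (n + 1 : ℕ)) / 2 = t + n + 1 := by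
      rw [show ((n + 1 : ℕ) : ℤ) ^ 2 + (n + 1 : ℕ) = (t + n + 1) * 2 by push_cast; linarith [ht, sq (n : ℤ)],
        Int.mul_ediv_cancel _ two_ne_zero]
    have e1' : (((n + 1 : ℕ) : ℤ) ^ 2 - (n + 1 : ℕ)) / 2 = t := by
      rw [show ((n + 1 : ℕ) : ℤ) ^ 2 - (n + 1 : ℕ) = t * 2 by push_cast; linarith [ht, sq (n : ℤ)],
        Int.mul_ediv_cancel _ two_ne_zero]
    have e2 : (((n + 2 : ℕ) : ℤ) ^ 2 + (n + 2 : ℕ)) / 2 = t + 2 * n + 3 := by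
      rw [show ((n + 2 : ℕ) : ℤ) ^ 2 + (n + 2 : ℕ) = (t + 2 * n + 3) * 2 by push_cast; linarith [ht, sq (n : ℤ)],
        Int.mul_ediv_cancel _ two_ne_zero]
    have e2' : (((n + 2 : ℕ) : ℤ) ^ 2 - (n + 2 : ℕ)) / 2 = t + n + 1 := by
      rw [show ((n + 2 : ℕ) : ℤ) ^ 2 - (n + 2 : ℕ) = (t + n + 1) * 2 by push_cast; linarith [ht, sq (n : ℤ)],
        Int.mul_ediv_cancel _ two_ne_zero]
    have h := hrec n
    rw [ih1, ih0, e0, e0', e1, e1', sq] at h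
    rw [e2, e2']
    refine mul_right_cancel (b := a ^ t * b ^ (t - (n : ℤ))) (h.trans ?_)
    have hz : ∀ i j k l : ℤ, (a ^ i * b ^ j) * (a ^ k * b ^ l) = a ^ (i + k) * b ^ (j + l) := fun i j k l => by
      rw [mul_mul_mul_comm, ← zpow_add, ← zpow_add]
    rw [hz, hz, mul_assoc (_ * _) a b, show a * b = a ^ (1 : ℤ) * b ^ (1 : ℤ) by rw [zpow_one, zpow_one], hz]
    congr 2 <;> ring

variable {S : Scheme.{u}} {A : Over S} [GrpObj A] [IsProper A.hom] [Flat A.hom] [LocallyOfFinitePresentation A.hom]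
  [GeometricallyIntegral A.hom] {L : A.left.Modules} {hL : PicF.IsInvertible L}

/-- The normalised class. -/
def ncls (L : A.left.Modules) (hL : PicF.IsInvertible L) {V : Over S} (f : V ⟶ A) : PicLoc.PicSet V.left :=
  cls L hL f * (cls L hL (1 : V ⟶ A))⁻¹

theorem ncls_square {V : Over S} (f g h : V ⟶ A) :
    ncls L hL (f * g * h) * ncls L hL f * ncls L hL g * ncls L hL h =
      ncls L hL (f * g) * ncls L hL (f * h) * ncls L hL (g * h) := by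
  simp only [ncls]
  set E := cls L hL (1 : V ⟶ A)
  have h1 : cls L hL (f * g * h) * cls L hL f * cls L hL g * cls L hL h =
      cls L hL (f * g) * cls L hL (f * h) * cls L hL (g * h) * E := cube f g h
  have key : ∀ x y z w : PicLoc.PicSet V.left, x * E⁻¹ * (y * E⁻¹) * (z * E⁻¹) * (w * E⁻¹) =
      x * y * z * w * (E⁻¹ * E⁻¹ * E⁻¹ * E⁻¹) := fun x y z w => by ac_rfl
  rw [key, h1]
  have : cls L hL (f * g) * cls L hL (f * h) * cls L hL (g * h) * E * (E⁻¹ * E⁻¹ * E⁻¹ * E⁻¹) =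
      cls L hL (f * g) * E⁻¹ * (cls L hL (f * h) * E⁻¹) * (cls L hL (g * h) * E⁻¹) * (E * E⁻¹) := by ac_rfl
  rw [this, mul_inv_cancel, mul_one]

theorem ncls_natPow (n : ℕ) :
    ncls L hL (𝟙 A ^ n) = ncls L hL (𝟙 A) ^ (((n : ℤ) ^ 2 + n) / 2) *
      ncls L hL (𝟙 A)⁻¹ ^ (((n : ℤ) ^ 2 - n) / 2) := by
  refine quad_rec (fun n => ncls L hL (𝟙 A ^ n)) _ _ (by simp [ncls]) (by simp) (fun n => ?_) n
  have h := ncls_square (L := L) (hL := hL) (𝟙 A ^ (n + 1)) (𝟙 A) (𝟙 A)⁻¹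
  rw [mul_inv_cancel_right, mul_inv_cancel, show ncls L hL (1 : A ⟶ A) = 1 from mul_inv_cancel _, mul_one,
    show (𝟙 A ^ (n + 1)) * (𝟙 A)⁻¹ = 𝟙 A ^ n by rw [pow_succ, mul_inv_cancel_right], ← pow_succ] at h
  show ncls L hL (𝟙 A ^ (n + 2)) * ncls L hL (𝟙 A ^ n) = ncls L hL (𝟙 A ^ (n + 1)) ^ 2 * _ * _
  rw [← h, sq]

theorem pullHom_ncls {V W : Over S} (s : W ⟶ V) (f : V ⟶ A) :
    PicGrp.pullHom s.left (M2.pullMul _) (ncls L hL f) = ncls L hL (s ≫ f) := by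
  rw [ncls, map_mul, map_inv, pullHom_cls, pullHom_cls, MonObj.comp_one]
  rfl

/-- The class of `[n]^* L`. -/
theorem ncls_zpow (n : ℤ) :
    ncls L hL (𝟙 A ^ n) = ncls L hL (𝟙 A) ^ ((n ^ 2 + n) / 2) * ncls L hL (𝟙 A)⁻¹ ^ ((n ^ 2 - n) / 2) := by
  obtain ⟨m, rfl | rfl⟩ := n.eq_nat_or_neg
  · rw [zpow_natCast]; exact ncls_natPow m
  · have h1 : (𝟙 A)⁻¹ ≫ 𝟙 A = (𝟙 A)⁻¹ := Category.comp_id _
    have h2 : (𝟙 A)⁻¹ ≫ (𝟙 A ^ m) = 𝟙 A ^ (-(m : ℤ)) := by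
      rw [MonObj.comp_pow, h1, zpow_neg, zpow_natCast, inv_pow]
    have h3 : (𝟙 A)⁻¹ ≫ (𝟙 A)⁻¹ = 𝟙 A := by rw [GrpObj.comp_inv, h1, inv_inv]
    rw [← h2, ← pullHom_ncls, ncls_natPow, map_mul, map_zpow, map_zpow, pullHom_ncls, pullHom_ncls, h1, h3,
      mul_comm, neg_sq, sub_neg_eq_add, ← sub_eq_add_neg]

/-- The exponents add up to `n²`. -/
theorem exponents (n : ℤ) : 0 ≤ (n ^ 2 + n) / 2 ∧ 0 ≤ (n ^ 2 - n) / 2 ∧
    (n ^ 2 + n) / 2 + (n ^ 2 - n) / 2 = (n.natAbs ^ 2 : ℕ) := by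
  obtain ⟨t, ht⟩ := Int.even_mul_succ_self n
  have e0 : (n ^ 2 + n) / 2 = t := by
    rw [show n ^ 2 + n = t * 2 by linarith [ht, sq n], Int.mul_ediv_cancel _ two_ne_zero]
  have e0' : (n ^ 2 - n) / 2 = t - n := by
    rw [show n ^ 2 - n = (t - n) * 2 by linarith [ht, sq n], Int.mul_ediv_cancel _ two_ne_zero]
  have e : ((n.natAbs ^ 2 : ℕ) : ℤ) = n ^ 2 := by push_cast; exact sq_abs n
  rw [e0, e0', e]
  refine ⟨?_, ?_, by linarith [ht, sq n]⟩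
  · rcases le_or_gt 0 n with h | h <;> nlinarith
  · rcases le_or_gt n 0 with h | h <;> nlinarith

/-- `[n]^* L` against `L` and `[-1]^* L`. -/
theorem cls_zpow (n : ℤ) :
    cls L hL (𝟙 A ^ n) * cls L hL (1 : A ⟶ A) ^ (n.natAbs ^ 2) =
      cls L hL (𝟙 A) ^ ((n ^ 2 + n) / 2).toNat * cls L hL (𝟙 A)⁻¹ ^ ((n ^ 2 - n) / 2).toNat *
        cls L hL (1 : A ⟶ A) := by
  obtain ⟨ha, hb, hab⟩ := exponents n
  have h := ncls_zpow (L := L) (hL := hL) n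
  simp only [ncls, mul_zpow, inv_zpow'] at h
  rw [mul_inv_eq_iff_eq_mul] at h
  have ea : cls L hL (𝟙 A) ^ ((n ^ 2 + n) / 2).toNat = cls L hL (𝟙 A) ^ ((n ^ 2 + n) / 2) :=
    (zpow_natCast _ _).symm.trans (congrArg _ (Int.toNat_of_nonneg ha))
  have eb : cls L hL (𝟙 A)⁻¹ ^ ((n ^ 2 - n) / 2).toNat = cls L hL (𝟙 A)⁻¹ ^ ((n ^ 2 - n) / 2) :=
    (zpow_natCast _ _).symm.trans (congrArg _ (Int.toNat_of_nonneg hb))
  have eE : cls L hL (1 : A ⟶ A) ^ (n.natAbs ^ 2) =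
      cls L hL (1 : A ⟶ A) ^ ((n ^ 2 + n) / 2) * cls L hL (1 : A ⟶ A) ^ ((n ^ 2 - n) / 2) :=
    (zpow_natCast _ _).symm.trans ((congrArg _ hab.symm).trans (zpow_add _ _ _))
  rw [h, ea, eb, eE]
  generalize cls L hL (1 : A ⟶ A) = E
  generalize cls L hL (𝟙 A) ^ ((n ^ 2 + n) / 2) = X
  generalize cls L hL (𝟙 A)⁻¹ ^ ((n ^ 2 - n) / 2) = Y
  rw [zpow_neg, zpow_neg]
  calc X * (E ^ ((n ^ 2 + n) / 2))⁻¹ * (Y * (E ^ ((n ^ 2 - n) / 2))⁻¹) * E *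
        (E ^ ((n ^ 2 + n) / 2) * E ^ ((n ^ 2 - n) / 2))
      = X * Y * E * ((E ^ ((n ^ 2 + n) / 2))⁻¹ * E ^ ((n ^ 2 + n) / 2)) *
        ((E ^ ((n ^ 2 - n) / 2))⁻¹ * E ^ ((n ^ 2 - n) / 2)) := by ac_rfl
    _ = X * Y * E := by rw [inv_mul_cancel, inv_mul_cancel, mul_one, mul_one]

end Groth.Agent.Seesaw22
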