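import Groth.Agent.Lib.CubeField.Lift
import Groth.Agent.Lib.CubeField.DvrCube

/-!
# Lifting trivialisations along small extensions of a local base
-/

universe u

open CategoryTheory Limits AlgebraicGeometry TopologicalSpace Opposite IsLocalRing

set_option linter.style.haveILetI false
set_option backward.isDefEq.respectTransparency false
set_option maxHeartbeats 800000

namespace Groth.Agent.Seesaw22

open RigidRel CubeField

theorem mem_map_sup_span {A B : Type u} [CommRing A] [CommRing B] (φ : A →+* B) (I : Ideal A) (e : A) (x : B) :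
    x ∈ (I ⊔ Ideal.span {e}).map φ ↔ ∃ y ∈ I.map φ, ∃ z, x = y + φ e * z := by
  rw [Ideal.map_sup, Ideal.map_span, Set.image_singleton, Submodule.mem_sup]
  constructor
  · rintro ⟨y, hy, w, hw, rfl⟩
    obtain ⟨z, rfl⟩ := Ideal.mem_span_singleton'.1 hw
    exact ⟨y, hy, z, by rw [mul_comm (φ e)]⟩
  · rintro ⟨y, hy, z, rfl⟩
    exact ⟨y, hy, φ e * z, Ideal.mul_mem_right _ _ (Ideal.mem_span_singleton_self _), rfl⟩

theorem mul_mem_map {A B : Type u} [CommRing A] [CommRing B] (φ : A →+* B) (I m : Ideal A) (e : A)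
    (he : ∀ a ∈ m, e * a ∈ I) {x : B} (hx : x ∈ m.map φ) : φ e * x ∈ I.map φ := by
  have hle : Ideal.span {e} * m ≤ I := Ideal.mul_le.2 fun r hr a ha => by
    obtain ⟨z, rfl⟩ := Ideal.mem_span_singleton'.1 hr
    rw [mul_assoc]
    exact I.mul_mem_left _ (he a ha)
  refine Ideal.map_mono hle ?_
  rw [Ideal.map_mul]
  exact Ideal.mul_mem_mul (Ideal.mem_map_of_mem _ (Ideal.mem_span_singleton_self e)) hx

variable {A : CommRingCat.{u}} [IsLocalRing A] {W : Scheme.{u}} (ξ : W ⟶ Spec A) {ι : Type}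

theorem colon_le {I : Ideal A} {e : A} (he : e ∉ I) : Submodule.colon I {e} ≤ maximalIdeal A := fun r hr => by
  by_contra hu
  obtain ⟨r', hr'⟩ := (IsLocalRing.notMem_maximalIdeal.1 hu).exists_left_inv
  have h := Submodule.mem_colon_singleton.1 hr
  refine he ?_
  have h1 := I.mul_mem_left r' h
  rwa [smul_eq_mul, ← mul_assoc, hr', one_mul] at h1

theorem mem_max_of_mul [Flat ξ] {V : W.Opens} (hV : IsAffineOpen V) {I : Ideal A} {e : A} (he : e ∉ I)
    {x : Γ(W, V)} (h : ringMap ξ V e * x ∈ I.map (ringMap ξ V).hom) :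
    x ∈ (maximalIdeal A).map (ringMap ξ V).hom :=
  Ideal.map_mono (colon_le he) (mem_colon_map_ringMap ξ hV I e x h)

theorem rs_mem_map {I : Ideal A} {U V : W.Opens} (h : V ≤ U) {x : Γ(W, U)}
    (hx : x ∈ I.map (ringMap ξ U).hom) : rs h x ∈ I.map (ringMap ξ V).hom := by
  have hle : (I.map (ringMap ξ U).hom).map (rs h) ≤ I.map (ringMap ξ V).hom := by
    rw [Ideal.map_map]
    refine le_of_eq ?_
    congr 1
    ext a
    exact rs_ringMap h a
  exact hle (Ideal.mem_map_of_mem _ hx)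

theorem app_mem_map {T : Scheme.{u}} {ρ : T ⟶ Spec A} (j : T ⟶ W) (hj : j ≫ ξ = ρ) {I : Ideal A} {U : W.Opens}
    {x : Γ(W, U)} (hx : x ∈ I.map (ringMap ξ U).hom) : j.app U x ∈ I.map (ringMap ρ (j ⁻¹ᵁ U)).hom := by
  have hle : (I.map (ringMap ξ U).hom).map (j.app U).hom ≤ I.map (ringMap ρ (j ⁻¹ᵁ U)).hom := by
    rw [Ideal.map_map]
    refine le_of_eq ?_
    congr 1
    ext a
    exact app_ringMap (𝟙 A) (η := ρ) ⟨by rw [hj, Spec.map_id, Category.comp_id]⟩ U a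
  exact hle (Ideal.mem_map_of_mem _ hx)

theorem app_eq_zero_of_mem_max {W₀ : Scheme.{u}} {η : W₀ ⟶ Spec (CommRingCat.of (A ⧸ maximalIdeal A))}
    {f : W₀ ⟶ W} (hsq : CommSq f η ξ (quotBase (maximalIdeal A))) {U : W.Opens} {x : Γ(W, U)}
    (hx : x ∈ (maximalIdeal A).map (ringMap ξ U).hom) : f.app U x = 0 := by
  suffices hle : (maximalIdeal A).map (ringMap ξ U).hom ≤ RingHom.ker (f.app U).hom from hle hx
  rw [Ideal.map_le_iff_le_comap]
  intro a ha
  show f.app U (ringMap ξ U a) = 0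
  rw [app_ringMap _ hsq, show (CommRingCat.ofHom (Ideal.Quotient.mk (maximalIdeal A))) a = 0 from
    Ideal.Quotient.eq_zero_iff_mem.2 ha, map_zero]

/-- A lift of the trivialisation `v₀` of the closed fibre which is compatible modulo `I`. -/
def TrivMod (c : Coc W ι) {W₀ : Scheme.{u}} (f : W₀ ⟶ W) (v₀ : ∀ i, Γ(W₀, f ⁻¹ᵁ c.V i)) (I : Ideal A) : Prop :=
  ∃ v : ∀ i, Γ(W, c.V i), (∀ i, f.app (c.V i) (v i) = v₀ i) ∧
    ∀ i i', c.dd v i i' ∈ I.map (ringMap ξ (c.V i ⊓ c.V i')).hom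

/-- The twisted cocycle condition after restriction. -/
def IsTwistedOn (c : Coc W ι) {W₀ : Scheme.{u}} (f : W₀ ⟶ W) (w : ∀ i j, Γ(W, c.V i ⊓ c.V j)) : Prop :=
  ∀ (i j k : ι),
    f.app (c.V i ⊓ c.V j ⊓ c.V k)
        (rs inf_le_left (w i j) + rs inf_le_left (c.g i j) *
          rs (le_inf (inf_le_left.trans inf_le_right) inf_le_right) (w j k)) =
      f.app (c.V i ⊓ c.V j ⊓ c.V k) (rs (le_inf (inf_le_left.trans inf_le_left) inf_le_right) (w i k))

theorem isCocycle_div' {W₀ : Scheme.{u}} (f : W₀ ⟶ W) (c : Coc W ι) (e : ∀ i i', Γ(W, c.V i ⊓ c.V i'))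
    (htw : IsTwistedOn c f e) (v' : ∀ i, Γ(W₀, f ⁻¹ᵁ c.V i))
    (hv' : ∀ (i i' : ι) (U : W₀.Opens) (hi : U ≤ f ⁻¹ᵁ c.V i) (hi' : U ≤ f ⁻¹ᵁ c.V i'),
      rs hi (v' i) * rs (show U ≤ f ⁻¹ᵁ (c.V i ⊓ c.V i') from le_inf hi hi') (f.app _ (c.g i i')) =
        rs hi' (v' i')) :
    IsCocycle (fun i => f ⁻¹ᵁ c.V i) fun i i' =>
      rs (f.preimage_mono (inf_le_left : c.V i ⊓ c.V i' ≤ c.V i)) (v' i) * f.app (c.V i ⊓ c.V i') (e i i') := by
  intro i i' l U hi hi' hl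
  have hU3 : U ≤ f ⁻¹ᵁ (c.V i ⊓ c.V i' ⊓ c.V l) := le_inf (le_inf hi hi') hl
  have h1 := htw i i' l
  rw [map_add, map_mul, app_rs, app_rs, app_rs, app_rs] at h1
  have h2 := congrArg (rs hU3) h1
  rw [map_add, map_mul, rs_rs, rs_rs, rs_rs, rs_rs] at h2
  have h3 := hv' i i' U hi hi'
  show rs _ (_ * _) + rs _ (_ * _) = rs _ (_ * _)
  rw [map_mul, map_mul, map_mul]
  erw [rs_rs, rs_rs, rs_rs]
  linear_combination (rs hi (v' i)) * h2 +
    (-rs (show U ≤ f ⁻¹ᵁ (c.V i' ⊓ c.V l) from le_inf hi' hl) (f.app _ (e i' l))) * h3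

theorem isCoboundary_slice (c : Coc W ι) (hcov : ⨆ i, c.V i = ⊤) {W₀ : Scheme.{u}} (f : W₀ ⟶ W)
    {η : W₀ ⟶ Spec (CommRingCat.of (A ⧸ maximalIdeal A))} (hsq : CommSq f η ξ (quotBase (maximalIdeal A)))
    {T T₀ : Scheme.{u}} (ρ : T ⟶ Spec A) [Flat ρ] [IsSeparated ρ] [QuasiCompact ρ]
    [LocallyOfFinitePresentation ρ] [Surjective ρ] (hρ : ConstFibres ρ) (j : T ⟶ W) (j₀ : T₀ ⟶ W₀) (q : T₀ ⟶ T)
    (hjq : q ≫ j = j₀ ≫ f) (hj : j ≫ ξ = ρ) (hjV : ∀ i, IsAffineOpen (j ⁻¹ᵁ c.V i))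
    (hjI : ∀ i i', IsAffineOpen (j ⁻¹ᵁ (c.V i ⊓ c.V i'))) (hτ : (c.pull j).Trivial)
    (v : ∀ i, Γ(W, c.V i)) {I : Ideal A} {e : A} (he : e ∉ I)
    (w y : ∀ i i', Γ(W, c.V i ⊓ c.V i')) (hy : ∀ i i', y i i' ∈ I.map (ringMap ξ (c.V i ⊓ c.V i')).hom)
    (hd : ∀ i i', c.dd v i i' = y i i' + ringMap ξ (c.V i ⊓ c.V i') e * w i i')
    (v' : ∀ i, Γ(W₀, f ⁻¹ᵁ c.V i))
    (hv' : ∀ (i i' : ι) (U : W₀.Opens) (hi : U ≤ f ⁻¹ᵁ c.V i) (hi' : U ≤ f ⁻¹ᵁ c.V i'),
      rs hi (v' i) * rs (show U ≤ f ⁻¹ᵁ (c.V i ⊓ c.V i') from le_inf hi hi') (f.app _ (c.g i i')) =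
        rs hi' (v' i')) :
    IsCoboundary (fun i => j₀ ⁻¹ᵁ (f ⁻¹ᵁ c.V i)) fun i i' => j₀.app (f ⁻¹ᵁ c.V i ⊓ f ⁻¹ᵁ c.V i')
      (rs (f.preimage_mono (inf_le_left : c.V i ⊓ c.V i' ≤ c.V i)) (v' i) * f.app (c.V i ⊓ c.V i') (w i i')) := by
  obtain ⟨τ, hτc, hτu⟩ := hτ
  change ∀ i, Γ(T, j ⁻¹ᵁ c.V i) at τ
  let J : Ideal A := I ⊔ Ideal.span {e}
  let gJ := CommRingCat.ofHom (Ideal.Quotient.mk J)
  let TJ := pullback ρ (quotBase J)
  let π₁ : TJ ⟶ T := pullback.fst _ _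
  have hsqJ : IsPullback π₁ (pullback.snd _ _) ρ (quotBase J) := IsPullback.of_hasPullback _ _
  have hker : RingHom.ker gJ.hom = J := Ideal.mk_ker
  have hsqq : CommSq q (j₀ ≫ η) ρ (quotBase (maximalIdeal A)) :=
    ⟨by rw [← hj, ← Category.assoc, hjq, Category.assoc, hsq.w, Category.assoc]⟩
  let τ' : ∀ i, Γ(T, j ⁻¹ᵁ c.V i) := fun i => ((hτu i).unit⁻¹ : (Γ(T, j ⁻¹ᵁ c.V i))ˣ).val
  have hττ' : ∀ i, τ i * τ' i = 1 := fun i => (hτu i).mul_val_inv
  have hτ'c : (c.pull j).inv.Compat τ' := Coc.compat_inv_of_mul_eq_one (c := c.pull j) hτc hττ'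
  have b0 : ∀ i i', rs (j.preimage_mono (inf_le_left : c.V i ⊓ c.V i' ≤ c.V i)) (τ i) =
      j.app _ (c.g i i') * rs (j.preimage_mono inf_le_right) (τ i') := fun i i' => hτc i i'
  have a0 : ∀ i i', rs (j.preimage_mono (inf_le_left : c.V i ⊓ c.V i' ≤ c.V i)) (τ i) *
      rs (j.preimage_mono inf_le_left) (τ' i) = 1 := fun i i' => by rw [← map_mul, hττ', map_one]
  have a0' : ∀ i i', rs (j.preimage_mono (inf_le_right : c.V i ⊓ c.V i' ≤ c.V i')) (τ i') *
      rs (j.preimage_mono inf_le_right) (τ' i') = 1 := fun i i' => by rw [← map_mul, hττ', map_one]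
  let a : ∀ i, Γ(T, j ⁻¹ᵁ c.V i) := fun i => j.app (c.V i) (v i)
  have hda : ∀ i i', rs (j.preimage_mono inf_le_left) (a i) -
      j.app _ (c.g i i') * rs (j.preimage_mono inf_le_right) (a i') =
        j.app _ (y i i') + ringMap ρ _ e * j.app _ (w i i') := fun i i' => by
    have h1 := congrArg (j.app (c.V i ⊓ c.V i')) (hd i i')
    rw [Coc.dd, map_sub, map_mul, map_add, map_mul, app_rs, app_rs] at h1
    rw [app_ringMap (𝟙 A) (η := ρ) ⟨by rw [hj, Spec.map_id, Category.comp_id]⟩] at h1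
    exact h1
  have hmemJ : ∀ i i', rs (j.preimage_mono inf_le_left) (a i) -
      j.app _ (c.g i i') * rs (j.preimage_mono inf_le_right) (a i') ∈
        J.map (ringMap ρ (j ⁻¹ᵁ (c.V i ⊓ c.V i'))).hom := fun i i' => by
    rw [hda]
    exact (mem_map_sup_span _ I e _).2 ⟨_, app_mem_map ξ j hj (hy i i'), _, rfl⟩
  have hz : ∀ i i', π₁.app (j ⁻¹ᵁ (c.V i ⊓ c.V i')) (rs (j.preimage_mono inf_le_left) (a i * τ' i) -
      rs (j.preimage_mono inf_le_right) (a i' * τ' i')) = 0 := fun i i' => by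
    rw [app_eq_zero_iff gJ hsqJ (hjI i i'), hker, map_mul, map_mul]
    have key : rs (j.preimage_mono inf_le_left) (a i) * rs (j.preimage_mono inf_le_left) (τ' i) -
        rs (j.preimage_mono inf_le_right) (a i') * rs (j.preimage_mono inf_le_right) (τ' i') =
        (rs (j.preimage_mono inf_le_left) (a i) -
          j.app _ (c.g i i') * rs (j.preimage_mono inf_le_right) (a i')) *
        rs (j.preimage_mono inf_le_left) (τ' i) := by
      linear_combination (-rs (j.preimage_mono inf_le_right) (a i') * rs (j.preimage_mono inf_le_right) (τ' i') *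
          rs (j.preimage_mono inf_le_left) (τ' i)) * (b0 i i') +
        rs (j.preimage_mono inf_le_right) (a i') * rs (j.preimage_mono inf_le_right) (τ' i') * (a0 i i') +
        (-rs (j.preimage_mono inf_le_right) (a i') * j.app _ (c.g i i') *
          rs (j.preimage_mono inf_le_left) (τ' i)) * (a0' i i')
    rw [key]
    exact Ideal.mul_mem_right _ _ (hmemJ i i')
  obtain ⟨G, hG⟩ := exists_glue (fun i => π₁ ⁻¹ᵁ (j ⁻¹ᵁ c.V i)) (U := ⊤) (fun x _ => by
      obtain ⟨i, hi⟩ := Opens.mem_iSup.1 (hcov.ge (Opens.mem_top (j (π₁ x))))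
      exact Opens.mem_iSup.2 ⟨i, hi⟩) (fun _ => le_top)
    (fun i => π₁.app _ (a i * τ' i)) fun i i' => by
      have h1 := hz i i'
      rw [map_sub, app_rs, app_rs, sub_eq_zero] at h1
      exact h1
  obtain ⟨r, rfl⟩ := (bijective_ringMap (pullback.snd ρ (quotBase J)) (hρ.baseChange _)).2 G
  obtain ⟨r, rfl⟩ := Ideal.Quotient.mk_surjective r
  have hH' : ∀ i, ∃ y' ∈ I.map (ringMap ρ (j ⁻¹ᵁ c.V i)).hom, ∃ h : Γ(T, j ⁻¹ᵁ c.V i),
      a i * τ' i - ringMap ρ (j ⁻¹ᵁ c.V i) r = y' + ringMap ρ (j ⁻¹ᵁ c.V i) e * h := fun i => by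
    have h1 := (app_eq_zero_iff gJ hsqJ (hjV i) (a i * τ' i - ringMap ρ _ r)).1 (by
      rw [map_sub, app_ringMap gJ hsqJ.toCommSq, ← hG i, rs_ringMap]
      exact sub_self _)
    rw [hker] at h1
    exact (mem_map_sup_span _ I e _).1 h1
  choose y' hy' h hh using hH'
  let H : ∀ i, Γ(T, j ⁻¹ᵁ c.V i) := fun i => τ i * h i
  have hdm : ∀ i i', ringMap ρ _ e * (j.app _ (w i i') - (rs (j.preimage_mono inf_le_left) (H i) -
      j.app _ (c.g i i') * rs (j.preimage_mono inf_le_right) (H i'))) ∈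
        I.map (ringMap ρ (j ⁻¹ᵁ (c.V i ⊓ c.V i'))).hom := fun i i' => by
    have h1 := congrArg (rs (j.preimage_mono (inf_le_left : c.V i ⊓ c.V i' ≤ c.V i))) (hh i)
    have h2 := congrArg (rs (j.preimage_mono (inf_le_right : c.V i ⊓ c.V i' ≤ c.V i'))) (hh i')
    simp only [map_sub, map_add, map_mul, rs_ringMap] at h1 h2
    have key : ringMap ρ _ e * (j.app _ (w i i') - (rs (j.preimage_mono inf_le_left) (H i) -
        j.app _ (c.g i i') * rs (j.preimage_mono inf_le_right) (H i'))) =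
        rs (j.preimage_mono inf_le_left) (τ i) * rs (j.preimage_mono inf_le_left) (y' i) -
        j.app _ (c.g i i') * rs (j.preimage_mono inf_le_right) (τ i') *
          rs (j.preimage_mono inf_le_right) (y' i') - j.app _ (y i i') := by
      simp only [H, map_mul]
      linear_combination -(hda i i') + rs (j.preimage_mono inf_le_left) (τ i) * h1 -
        j.app _ (c.g i i') * rs (j.preimage_mono inf_le_right) (τ i') * h2 -
        rs (j.preimage_mono inf_le_left) (a i) * (a0 i i') +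
        j.app _ (c.g i i') * rs (j.preimage_mono inf_le_right) (a i') * (a0' i i') +
        ringMap ρ _ r * (b0 i i')
    rw [key]
    exact sub_mem (sub_mem (Ideal.mul_mem_left _ _ (rs_mem_map ρ _ (hy' i)))
      (Ideal.mul_mem_left _ _ (rs_mem_map ρ _ (hy' i')))) (app_mem_map ξ j hj (hy i i'))
  have hz0 : ∀ i i', q.app _ (j.app _ (w i i')) = q.app _ (rs (j.preimage_mono inf_le_left) (H i) -
      j.app _ (c.g i i') * rs (j.preimage_mono inf_le_right) (H i')) := fun i i' => by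
    rw [← sub_eq_zero, ← map_sub]
    exact app_eq_zero_of_mem_max ρ hsqq (mem_max_of_mul ρ (hjI i i') he (hdm i i'))
  clear_value H
  have hopen : ∀ V : W.Opens, j₀ ⁻¹ᵁ (f ⁻¹ᵁ V) ≤ q ⁻¹ᵁ (j ⁻¹ᵁ V) := fun V =>
    le_of_eq (congrArg (fun φ : T₀ ⟶ W => φ ⁻¹ᵁ V) hjq.symm)
  have htr : ∀ (V : W.Opens) (z : Γ(W, V)), j₀.app _ (f.app V z) =
      rs (hopen V) (q.app _ (j.app V z)) := fun V z =>
    ((rs_app_app_of_eq' q j j₀ f hjq (hopen V) le_rfl z).trans (rs_self _ _)).symm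
  refine ⟨fun i => j₀.app _ (v' i) * rs (hopen _) (q.app _ (H i)), fun i i' => ?_⟩
  have h1 := congrArg (fun z => rs (hopen (c.V i ⊓ c.V i')) z) (hz0 i i')
  simp only [map_sub, map_mul, app_rs] at h1
  rw [← htr, ← htr] at h1
  erw [rs_rs, rs_rs] at h1
  show rs (j₀.preimage_mono (f.preimage_mono (inf_le_left : c.V i ⊓ c.V i' ≤ c.V i)))
      (j₀.app _ (v' i) * rs (hopen _) (q.app _ (H i))) -
    rs (j₀.preimage_mono (f.preimage_mono (inf_le_right : c.V i ⊓ c.V i' ≤ c.V i')))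
      (j₀.app _ (v' i') * rs (hopen _) (q.app _ (H i'))) =
    j₀.app (f ⁻¹ᵁ (c.V i ⊓ c.V i'))
      (rs (f.preimage_mono (inf_le_left : c.V i ⊓ c.V i' ≤ c.V i)) (v' i) * f.app (c.V i ⊓ c.V i') (w i i'))
  rw [map_mul, map_mul, map_mul, app_rs]
  erw [rs_rs, rs_rs]
  have h3 := congrArg (j₀.app (f ⁻¹ᵁ c.V i ⊓ f ⁻¹ᵁ c.V i')) (hv' i i' _ inf_le_left inf_le_right)
  rw [map_mul, app_rs, app_rs, app_rs] at h3
  erw [rs_self] at h3
  linear_combination
    (-rs (j₀.preimage_mono (f.preimage_mono (inf_le_left : c.V i ⊓ c.V i' ≤ c.V i))) (j₀.app _ (v' i))) * h1 +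
    (rs ((hopen _).trans (q.preimage_mono (j.preimage_mono inf_le_right))) (q.app _ (H i'))) * h3

/-- The hypothesis that slices detect additive coboundaries on the closed fibre. -/
def SlicesDetect {κ : Type} {W₀ : Scheme.{u}} {T₀ : κ → Scheme.{u}} (j₀ : ∀ s, T₀ s ⟶ W₀) : Prop :=
  ∀ {α : Type} (V : α → W₀.Opens), ⨆ i, V i = ⊤ → ∀ e : ∀ i i', Γ(W₀, V i ⊓ V i'), IsCocycle V e →
    (∀ s, IsCoboundary (fun i => j₀ s ⁻¹ᵁ V i) fun i i' => (j₀ s).app (V i ⊓ V i') (e i i')) →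
    IsCoboundary V e

variable [Flat ξ] [IsSeparated ξ] (c : Coc W ι) (hcov : ⨆ i, c.V i = ⊤) (hV : ∀ i, IsAffineOpen (c.V i))
  {W₀ : Scheme.{u}} {η : W₀ ⟶ Spec (CommRingCat.of (A ⧸ maximalIdeal A))}
  {f : W₀ ⟶ W} (hsq : IsPullback f η ξ (quotBase (maximalIdeal A)))
  {κ : Type} (T T₀ : κ → Scheme.{u}) (ρ : ∀ s, T s ⟶ Spec A) [∀ s, Flat (ρ s)] [∀ s, IsSeparated (ρ s)]
  [∀ s, QuasiCompact (ρ s)] [∀ s, LocallyOfFinitePresentation (ρ s)] [∀ s, Surjective (ρ s)]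
  (hρ : ∀ s, ConstFibres (ρ s)) (j : ∀ s, T s ⟶ W) [∀ s, IsAffineHom (j s)] (j₀ : ∀ s, T₀ s ⟶ W₀)
  (q : ∀ s, T₀ s ⟶ T s) (hjq : ∀ s, q s ≫ j s = j₀ s ≫ f) (hj : ∀ s, j s ≫ ξ = ρ s)
  (hτ : ∀ s, (c.pull (j s)).Trivial) (hinj : SlicesDetect j₀)
  {v₀ : ∀ i, Γ(W₀, f ⁻¹ᵁ c.V i)} (hv₀ : (c.pull f).Compat v₀) (hv₀u : ∀ i, IsUnit (v₀ i))

include hcov hV hsq hρ hjq hj hτ hinj hv₀ hv₀u in
/-- One small step. -/
theorem trivMod_step {I : Ideal A} {e : A} (hem : e ∈ maximalIdeal A) (hmul : ∀ a ∈ maximalIdeal A, e * a ∈ I)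
    (h : TrivMod ξ c f v₀ (I ⊔ Ideal.span {e})) : TrivMod ξ c f v₀ I := by
  classical
  by_cases he : e ∈ I
  · rwa [sup_eq_left.2 ((Ideal.span_singleton_le_iff_mem I).2 he)] at h
  haveI : W.IsSeparated := ⟨by rw [← Limits.terminal.comp_from ξ]; infer_instance⟩
  have hI : ∀ i i', IsAffineOpen (c.V i ⊓ c.V i') := fun i i' => (hV i).inf (hV i')
  obtain ⟨v, hv, hdv⟩ := h
  choose y hy w hd using fun i i' => (mem_map_sup_span _ I e _).1 (hdv i i')
  have htw : IsTwistedOn c f w := fun i i' l => by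
    rw [← sub_eq_zero, ← map_sub]
    refine app_eq_zero_of_mem_max ξ hsq.toCommSq (mem_max_of_mul ξ ((hI i i').inf (hV l)) he ?_)
    have h1 := c.isTwisted_dd v i i' l (c.V i ⊓ c.V i' ⊓ c.V l) (inf_le_left.trans inf_le_left)
      (inf_le_left.trans inf_le_right) inf_le_right
    simp only [hd, map_add, map_mul, rs_ringMap] at h1
    have key : ringMap ξ (c.V i ⊓ c.V i' ⊓ c.V l) e * (rs inf_le_left (w i i') + rs inf_le_left (c.g i i') *
        rs (le_inf (inf_le_left.trans inf_le_right) inf_le_right) (w i' l) -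
        rs (le_inf (inf_le_left.trans inf_le_left) inf_le_right) (w i l)) =
        rs (le_inf (inf_le_left.trans inf_le_left) inf_le_right) (y i l) - rs inf_le_left (y i i') -
        rs inf_le_left (c.g i i') * rs (le_inf (inf_le_left.trans inf_le_right) inf_le_right) (y i' l) := by
      linear_combination h1
    rw [key]
    exact sub_mem (sub_mem (rs_mem_map ξ _ (hy i l)) (rs_mem_map ξ _ (hy i i')))
      (Ideal.mul_mem_left _ _ (rs_mem_map ξ _ (hy i' l)))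
  let v' : ∀ i, Γ(W₀, f ⁻¹ᵁ c.V i) := fun i => ((hv₀u i).unit⁻¹ : (Γ(W₀, f ⁻¹ᵁ c.V i))ˣ).val
  have hvv' : ∀ i, v₀ i * v' i = 1 := fun i => (hv₀u i).mul_val_inv
  have hv' : ∀ (i i' : ι) (U : W₀.Opens) (hi : U ≤ f ⁻¹ᵁ c.V i) (hi' : U ≤ f ⁻¹ᵁ c.V i'),
      rs hi (v' i) * rs (show U ≤ f ⁻¹ᵁ (c.V i ⊓ c.V i') from le_inf hi hi') (f.app _ (c.g i i')) =
        rs hi' (v' i') := fun i i' U hi hi' => by
    have h1 : rs hi (v₀ i) = rs (show U ≤ f ⁻¹ᵁ (c.V i ⊓ c.V i') from le_inf hi hi') (f.app _ (c.g i i')) *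
      rs hi' (v₀ i') := hv₀.res i i' U hi hi'
    have a1 : rs hi (v₀ i) * rs hi (v' i) = 1 := by rw [← map_mul, hvv', map_one]
    have a2 : rs hi' (v₀ i') * rs hi' (v' i') = 1 := by rw [← map_mul, hvv', map_one]
    linear_combination (-rs hi' (v' i') * rs hi (v' i)) * h1 + rs hi' (v' i') * a1 +
      (-rs (show U ≤ f ⁻¹ᵁ (c.V i ⊓ c.V i') from le_inf hi hi') (f.app _ (c.g i i')) * rs hi (v' i)) * a2
  let F : ∀ i i', Γ(W₀, f ⁻¹ᵁ c.V i ⊓ f ⁻¹ᵁ c.V i') := fun i i' =>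
    rs (f.preimage_mono (inf_le_left : c.V i ⊓ c.V i' ≤ c.V i)) (v' i) * f.app (c.V i ⊓ c.V i') (w i i')
  have hF : IsCocycle (fun i => f ⁻¹ᵁ c.V i) F := isCocycle_div' f c w htw v' hv'
  have hcov₀ : ⨆ i, f ⁻¹ᵁ c.V i = ⊤ := by rw [← Scheme.Hom.preimage_iSup, hcov]; rfl
  obtain ⟨u, hu⟩ := hinj (fun i => f ⁻¹ᵁ c.V i) hcov₀ F hF fun s =>
    isCoboundary_slice ξ c hcov f hsq.toCommSq (ρ s) (hρ s) (j s) (j₀ s) (q s) (hjq s) (hj s)
      (fun i => (hV i).preimage (j s)) (fun i i' => (hI i i').preimage (j s)) (hτ s) v he w y hy hd v' hv'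
  let g := CommRingCat.ofHom (Ideal.Quotient.mk (maximalIdeal A))
  have hg : Function.Surjective g.hom := Ideal.Quotient.mk_surjective
  choose H hH using fun i => app_surjective g hsq (hV i) hg (u i * v₀ i)
  refine ⟨fun i => v i - ringMap ξ _ e * H i, fun i => ?_, fun i i' => ?_⟩
  · rw [map_sub, map_mul, app_eq_zero_of_mem_max ξ hsq.toCommSq (Ideal.mem_map_of_mem _ hem), zero_mul,
      sub_zero, hv]
  · have h0 : f.app _ (w i i' - c.dd H i i') = 0 := by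
      rw [Coc.dd, map_sub, map_sub, map_mul, app_rs, app_rs, hH, hH, map_mul, map_mul]
      have h1 : rs (inf_le_left : f ⁻¹ᵁ c.V i ⊓ f ⁻¹ᵁ c.V i' ≤ _) (u i) -
          rs (inf_le_right : f ⁻¹ᵁ c.V i ⊓ f ⁻¹ᵁ c.V i' ≤ _) (u i') =
          rs (f.preimage_mono (inf_le_left : c.V i ⊓ c.V i' ≤ c.V i)) (v' i) * f.app (c.V i ⊓ c.V i') (w i i') :=
        hu i i'
      have h2 : rs (f.preimage_mono inf_le_left) (v₀ i) =
          f.app _ (c.g i i') * rs (f.preimage_mono inf_le_right) (v₀ i') := hv₀ i i'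
      have a1 : rs (f.preimage_mono (inf_le_left : c.V i ⊓ c.V i' ≤ c.V i)) (v₀ i) *
          rs (f.preimage_mono inf_le_left) (v' i) = 1 := by rw [← map_mul, hvv', map_one]
      linear_combination (-rs (f.preimage_mono inf_le_left) (v₀ i)) * h1 -
        rs (f.preimage_mono inf_le_right) (u i') * h2 - f.app (c.V i ⊓ c.V i') (w i i') * a1
    have h1 : w i i' - c.dd H i i' ∈ (maximalIdeal A).map (ringMap ξ (c.V i ⊓ c.V i')).hom := by
      have h := mem_map_ker_of_app_eq_zero g hsq (hI i i') _ h0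
      rwa [show RingHom.ker g.hom = maximalIdeal A from Ideal.mk_ker] at h
    have h3 : c.dd (fun i => v i - ringMap ξ _ e * H i) i i' =
        c.dd v i i' - ringMap ξ _ e * c.dd H i i' := by
      simp only [Coc.dd, map_sub, map_mul, rs_ringMap]; ring
    rw [h3, hd, add_sub_assoc, ← mul_sub]
    exact add_mem (hy i i') (mul_mem_map _ I (maximalIdeal A) e hmul h1)

include hcov hV hsq hρ hjq hj hτ hinj hv₀ hv₀u in
/-- Lifting to every power of the maximal ideal. -/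
theorem trivMod_pow [IsNoetherianRing A] (n : ℕ) : TrivMod ξ c f v₀ (maximalIdeal A ^ (n + 1)) := by
  classical
  induction n with
  | zero =>
    haveI : W.IsSeparated := ⟨by rw [← Limits.terminal.comp_from ξ]; infer_instance⟩
    let g := CommRingCat.ofHom (Ideal.Quotient.mk (maximalIdeal A))
    choose v hv using fun i => app_surjective g hsq (hV i) Ideal.Quotient.mk_surjective (v₀ i)
    refine ⟨v, hv, fun i i' => ?_⟩
    rw [zero_add, pow_one]
    have h0 : f.app _ (c.dd v i i') = 0 := by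
      rw [Coc.dd, map_sub, map_mul, app_rs, app_rs, hv, hv, sub_eq_zero]
      exact hv₀ i i'
    have h := mem_map_ker_of_app_eq_zero g hsq ((hV i).inf (hV i')) _ h0
    rwa [show RingHom.ker g.hom = maximalIdeal A from Ideal.mk_ker] at h
  | succ n IH =>
    obtain ⟨s, hs⟩ := IsNoetherian.noetherian (maximalIdeal A ^ (n + 1))
    change Ideal.span (s : Set A) = _ at hs
    have key : ∀ t : Finset A, (t : Set A) ⊆ (maximalIdeal A ^ (n + 1) : Ideal A) →
        TrivMod ξ c f v₀ (maximalIdeal A ^ (n + 1 + 1) ⊔ Ideal.span (t : Set A)) →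
        TrivMod ξ c f v₀ (maximalIdeal A ^ (n + 1 + 1)) := fun t => by
      induction t using Finset.induction_on with
      | empty => intro _ h; simpa using h
      | insert e t _ ih =>
        intro ht h
        have het : e ∈ maximalIdeal A ^ (n + 1) := ht (by simp)
        refine ih (fun x hx => ht (by simp [show x ∈ t from hx])) ?_
        refine trivMod_step ξ c hcov hV hsq T T₀ ρ hρ j j₀ q hjq hj hτ hinj hv₀ hv₀u
          (e := e) (Ideal.pow_le_self (by omega) het) (fun a ha => Ideal.mem_sup_left ?_) ?_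
        · rw [pow_succ _ (n + 1)]; exact Ideal.mul_mem_mul het ha
        · rwa [sup_assoc, ← Ideal.span_union, Set.union_singleton, ← Finset.coe_insert]
    refine key s (hs ▸ Ideal.subset_span) ?_
    rw [hs, sup_eq_right.2 (Ideal.pow_le_pow_right (by omega))]
    exact IH

include hcov hV hsq hρ hjq hj hτ hinj hv₀ hv₀u in
/-- Triviality on every infinitesimal neighbourhood of the closed fibre. -/
theorem trivial_thickening [IsNoetherianRing A] (n : ℕ) :
    (c.pull (pullback.fst ξ (quotBase (maximalIdeal A ^ (n + 1))))).Trivial := by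
  set J := maximalIdeal A ^ (n + 1)
  let i₀ := pullback.fst ξ (quotBase J)
  obtain ⟨v, hv, hdv⟩ := trivMod_pow ξ c hcov hV hsq T T₀ ρ hρ j j₀ q hjq hj hτ hinj hv₀ hv₀u n
  refine ⟨fun i => i₀.app (c.V i) (v i), fun i i' => ?_, fun i => ?_⟩
  · have h := app_eq_zero_of_mem_map ξ J _ (hdv i i')
    rw [Coc.dd, map_sub, map_mul, app_rs, app_rs, sub_eq_zero] at h
    exact h
  · refine RingedSpace.isUnit_of_isUnit_germ (pullback ξ (quotBase J)).toRingedSpace _ _ fun x hx => ?_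
    refine (Scheme.mem_basicOpen _ (i₀.app (c.V i) (v i)) x hx).1 ?_
    rw [← Scheme.preimage_basicOpen]
    show i₀ x ∈ W.basicOpen (v i)
    have hξx : ξ (i₀ x) = closedPoint A := by
      have h1 : ξ (i₀ x) ∈ Set.range (quotBase J) :=
        ⟨pullback.snd ξ (quotBase J) x, by
          rw [← Scheme.Hom.comp_apply, ← Scheme.Hom.comp_apply, pullback.condition]⟩
      rw [show Set.range (quotBase J) = PrimeSpectrum.zeroLocus (J : Set A) from
        (range_comap_of_surjective _ _ Ideal.Quotient.mk_surjective).trans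
          (congrArg (fun I : Ideal A => PrimeSpectrum.zeroLocus (I : Set A)) Ideal.mk_ker)] at h1
      refine PrimeSpectrum.ext ?_
      exact ((IsLocalRing.maximalIdeal.isMaximal A).eq_of_le (ξ (i₀ x)).isPrime.ne_top
        ((ξ (i₀ x)).isPrime.le_of_pow_le (PrimeSpectrum.mem_zeroLocus _ _ |>.1 h1))).symm
    obtain ⟨x₀, hx₀⟩ : i₀ x ∈ Set.range f := by
      rw [← hsq.isoPullback_hom_fst, Scheme.Hom.comp_base, TopCat.coe_comp, Set.range_comp,
        Set.range_eq_univ.2 hsq.isoPullback.hom.surjective, Set.image_univ, Scheme.Pullback.range_fst]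
      show ξ (i₀ x) ∈ Set.range (quotBase (maximalIdeal A))
      rw [show Set.range (quotBase (maximalIdeal A)) = PrimeSpectrum.zeroLocus (maximalIdeal A : Set A) from
        (range_comap_of_surjective _ _ Ideal.Quotient.mk_surjective).trans
          (congrArg (fun I : Ideal A => PrimeSpectrum.zeroLocus (I : Set A)) Ideal.mk_ker),
        hξx, PrimeSpectrum.mem_zeroLocus]
      exact subset_rfl
    have hmem : x₀ ∈ f ⁻¹ᵁ W.basicOpen (v i) := by
      rw [Scheme.preimage_basicOpen, hv, Scheme.basicOpen_of_isUnit _ (hv₀u i)]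
      show f x₀ ∈ c.V i
      rw [hx₀]
      exact hx
    rw [← hx₀]
    exact hmem

end Groth.Agent.Seesaw22
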