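import Groth.Agent.Lib.CBC10.Corep0
import Groth.Agent.Lib.CBC10.ModelExists
import Mathlib.RingTheory.Finiteness.Projective
import Mathlib.Algebra.Module.FinitePresentation

/-!
# Global sections are corepresented by a finitely presented module over any base ring
-/

set_option autoImplicit false
set_option linter.style.haveILetI false
set_option linter.unusedSectionVars false
set_option maxHeartbeats 1000000

universe u

open CategoryTheory CategoryTheory.Limits AlgebraicGeometry TopologicalSpace Opposite

noncomputable section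

namespace Groth.Agent.Seesaw22

open CBC10

attribute [local instance] secA

open CohFound in
attribute [-instance] abelianAb hasExtAb isGrothendieckAbelianAb enoughInjectivesAb

variable (A : Type u) [CommRing A] {X : Scheme.{u}} [X.Over (Spec (CommRingCat.of A))]
  [IsProper (X ↘ Spec (CommRingCat.of A))] [LocallyOfFinitePresentation (X ↘ Spec (CommRingCat.of A))]

/-- A finite projective complex computing the cohomology, over any ring. -/
theorem exists_computes_any (F : X.Modules) [hF : Coh.IsQCoh F] (hfp : CohB1.IsFP F)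
    (hfl : FlatMod.IsFlatOver (X ↘ Spec (CommRingCat.of A)) F) :
    ∃ P : ChainComplex (ModuleCat.{u} A) ℤ, (∀ i, Module.Finite A (P.X i)) ∧
      (∀ i, Module.Projective A (P.X i)) ∧
      (∀ (i : ℤ), 0 < i → ∀ M : ModuleCat.{u} A, Subsingleton (CohIII.T P i M)) ∧ Computes A F P := by
  obtain ⟨N, hN, hNfl⟩ := exists_nmodel (u := X ↘ Spec (CommRingCat.of A)) (F := F) hfp hfl
  letI : N.X'.Over (Spec (CommRingCat.of N.R)) := ⟨N.u'⟩
  haveI : IsProper (N.X' ↘ Spec (CommRingCat.of N.R)) := hN
  obtain ⟨P, hfin, hfree, -, hpos, hP⟩ := exists_computes N.R N.F' N.coh hNfl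
  letI : Algebra N.R A := (Spec.preimage N.π).hom.toAlgebra
  haveI := hfree
  haveI : N.X'.IsSeparated := ⟨by
    rw [← terminal.comp_from (N.X' ↘ Spec (CommRingCat.of N.R))]
    infer_instance⟩
  haveI : CompactSpace N.X' := QuasiCompact.compactSpace_of_compactSpace N.u'
  have hsq : IsPullback N.q (X ↘ Spec (CommRingCat.of A))
      (N.X' ↘ Spec (CommRingCat.of N.R)) (Spec.map (CommRingCat.ofHom (algebraMap N.R A))) := by
    have e : Spec.map (CommRingCat.ofHom (algebraMap N.R A)) = N.π := Spec.map_preimage N.π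
    rw [e]
    exact N.sq
  exact ⟨CohIII.bcCx (algebraMap N.R A) P, fun i => finite_bcCx P A i, fun i => projective_bcCx P A i,
    fun i hi M => by
      letI : Module N.R M := Module.compHom M (algebraMap N.R A)
      haveI : IsScalarTower N.R A M := IsScalarTower.of_algebraMap_smul fun _ _ => rfl
      haveI := hpos i hi (ModuleCat.of N.R M)
      exact ((BCData.self P).tEquivD M (sub_add_cancel i 1)).symm.toEquiv.subsingleton,
    Computes.baseChange hP N.coh.1 hsq N.iso.symm⟩

/-- A quotient of a finitely presented module by a finitely generated submodule. -/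
theorem finitePresentation_quotient {M : Type u} [AddCommGroup M] [Module A M] [Module.FinitePresentation A M]
    (N : Submodule A M) (hN : N.FG) : Module.FinitePresentation A (M ⧸ N) :=
  Module.finitePresentation_of_surjective N.mkQ N.mkQ_surjective (by rwa [Submodule.ker_mkQ])

/-- `M ↦ Γ(X, F ⊗_A M)` is corepresented by a finitely presented module. -/
theorem exists_corep_fp (F : X.Modules) [hF : Coh.IsQCoh F] (hfp : CohB1.IsFP F)
    (hfl : FlatMod.IsFlatOver (X ↘ Spec (CommRingCat.of A)) F) :
    ∃ Q : ModuleCat.{u} A, Module.FinitePresentation A Q ∧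
      Nonempty (CohIII.tensorAFunctor A F ⋙ CohIII.globalSectionsA A ≅
        (linearCoyoneda A (ModuleCat.{u} A)).obj (op Q)) := by
  obtain ⟨P, hfin, hproj, hneg, e, he⟩ := exists_computes_any A F hfp hfl
  haveI := hfin
  haveI := hproj
  haveI hflat : ∀ i, Module.Flat A (P.X i) := fun i => Module.Flat.of_projective
  have hepi : (CohIII.TFun P 1).PreservesEpimorphisms :=
    ⟨fun {M N} g _ => (ModuleCat.epi_iff_surjective _).2 fun y => ⟨0, (hneg 1 one_pos N).elim _ _⟩⟩
  have hc : Module.Flat A (FlatCxLib.Cok P (-((0 : ℕ) : ℤ))) :=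
    (FlatCxLib.preservesEpi_iff P (p := 1) (q := -((0 : ℕ) : ℤ)) (by simp)).1 hepi
  haveI := hc
  haveI hfpP : ∀ i, Module.FinitePresentation A (P.X i) := fun i =>
    Module.finitePresentation_of_projective A (P.X i)
  haveI : Module.FinitePresentation A (FlatCxLib.Cok P (-((0 : ℕ) : ℤ))) :=
    finitePresentation_quotient A _ (Submodule.FG.of_finite (N := LinearMap.range _))
  haveI : Module.Projective A (FlatCxLib.Cok P (-((0 : ℕ) : ℤ))) := Module.Flat.projective_of_finitePresentation
  let κ := FlatCxLib.corepIso P (p := -((0 : ℕ) : ℤ)) (sub_add_cancel _ 1)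
  let G := CohIII.tensorAFunctor A F ⋙ CohIII.globalSectionsA A
  let c : ∀ M, CohIII.T P (-((0 : ℕ) : ℤ)) M ≃ₗ[A] G.obj M := fun M =>
    ((e 0 M).trans (hmapLinEquiv A (tensorAIso A F M).symm 0)).trans
      (gammaEquiv A ((CohIII.tensorAFunctor A F).obj M)).symm
  have hnat : ∀ {M M' : ModuleCat.{u} A} (g : M ⟶ M') (x : CohIII.T P (-((0 : ℕ) : ℤ)) M),
      c M' ((CohIII.TFun P (-((0 : ℕ) : ℤ))).map g x) = G.map g (c M x) := fun {M M'} g x => by
    refine (gammaEquiv A ((CohIII.tensorAFunctor A F).obj M')).injective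
      (((gammaEquiv A _).apply_symm_apply _).trans ?_)
    refine Eq.trans ?_ (gammaAdd_natural A ((CohIII.tensorAFunctor A F).map g) (c M x)).symm
    refine Eq.trans (congrArg (hmapEquiv (tensorAIso A F M').symm 0) (he 0 g x)) ?_
    refine (hmap_square (tensorAIso A F M).symm (tensorAIso A F M').symm (psi A F g)
      ((CohIII.tensorAFunctor A F).map g) (psi_tensorAIso A F g) 0 (e 0 M x)).trans ?_
    exact congrArg (Sheaf.H.map _ 0) ((gammaEquiv A _).apply_symm_apply _).symm
  let γ : CohIII.TFun P (-((0 : ℕ) : ℤ)) ≅ G :=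
    NatIso.ofComponents (fun M => (c M).toModuleIso) fun g => ModuleCat.hom_ext (LinearMap.ext fun x => hnat g x)
  refine ⟨ModuleCat.of A (FlatCxLib.corep P (-((0 : ℕ) : ℤ)) (-((0 : ℕ) : ℤ) - 1)), ?_, ⟨γ.symm ≪≫ κ⟩⟩
  haveI : Module.FinitePresentation A (Module.Dual A (FlatCxLib.Cok P (-((0 : ℕ) : ℤ)))) :=
    Module.finitePresentation_of_projective A _
  exact finitePresentation_quotient A _ (Submodule.FG.of_finite (N := LinearMap.range _))

end Groth.Agent.Seesaw22
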