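import Groth.Agent.Lib.CubeField.DvrCube
import Mathlib.RingTheory.Localization.BaseChange
import Mathlib.Algebra.Module.LocalizedModule.IsLocalization

/-!
# Trivialisations spread out from the local ring of a point
-/

universe u

open CategoryTheory Limits AlgebraicGeometry TopologicalSpace Opposite TensorProduct

set_option linter.style.haveILetI false
set_option backward.isDefEq.respectTransparency false
set_option maxHeartbeats 1000000

namespace Groth.Agent.Seesaw22

open RigidRel CubeField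

variable {A : CommRingCat.{u}} {W : Scheme.{u}} (ξ : W ⟶ Spec A) {ι : Type}

/-- A function killed by localisation is killed by a denominator. -/
theorem exists_kill {B : CommRingCat.{u}} (g : A ⟶ B) (S : Submonoid A)
    (hloc : letI := g.hom.toAlgebra; IsLocalization S B)
    {Y : Scheme.{u}} {η : Y ⟶ Spec B} {f : Y ⟶ W} (hsq : IsPullback f η ξ (Spec.map g)) {V : W.Opens}
    (hV : IsAffineOpen V) (z : Γ(W, V)) (hz : f.app V z = 0) : ∃ s ∈ S, ringMap ξ V s * z = 0 := by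
  letI := g.hom.toAlgebra
  haveI : IsLocalization S B := hloc
  letI := (ringMap ξ V).hom.toAlgebra
  letI := (ringMap η (f ⁻¹ᵁ V)).hom.toAlgebra
  letI : Algebra A Γ(Y, f ⁻¹ᵁ V) := ((ringMap η (f ⁻¹ᵁ V)).hom.comp g.hom).toAlgebra
  obtain ⟨_, e, he⟩ := isBaseChange_app g hsq hV
  have h0 : (1 : B) ⊗ₜ[A] z = 0 := e.injective (by rw [he, hz, mul_zero, map_zero])
  haveI : IsLocalizedModule S (TensorProduct.mk A B Γ(W, V) 1) :=
    (isLocalizedModule_iff_isBaseChange S B _).2 (TensorProduct.isBaseChange A Γ(W, V) B)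
  obtain ⟨⟨s, hs⟩, h⟩ := (IsLocalizedModule.eq_zero_iff S (TensorProduct.mk A B Γ(W, V) 1)).1 h0
  exact ⟨s, hs, h⟩

/-- Triviality over the local ring of a point spreads out. -/
theorem exists_trivial_nhd [UniversallyClosed ξ] [IsSeparated ξ] [Finite ι] (p : PrimeSpectrum A)
    {B : CommRingCat.{u}} (g : A ⟶ B) (hloc : letI := g.hom.toAlgebra; IsLocalization p.asIdeal.primeCompl B)
    {Y : Scheme.{u}} {η : Y ⟶ Spec B} {f : Y ⟶ W} (hsq : IsPullback f η ξ (Spec.map g))
    (c : Coc W ι) (hcov : ⨆ i, c.V i = ⊤) (hV : ∀ i, IsAffineOpen (c.V i)) (h : (c.pull f).Trivial) :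
    ∃ b : A, b ∉ p.asIdeal ∧ ∀ {X : Scheme.{u}} (φ : X ⟶ W), (∀ x, b ∉ (ξ (φ x)).asIdeal) →
      (c.pull φ).Trivial := by
  classical
  haveI := Fintype.ofFinite ι
  haveI : W.IsSeparated := ⟨by rw [← Limits.terminal.comp_from ξ]; infer_instance⟩
  have hI : ∀ i j, IsAffineOpen (c.V i ⊓ c.V j) := fun i j => (hV i).inf (hV j)
  let S := p.asIdeal.primeCompl
  obtain ⟨v', hv', hv'u⟩ := h
  change ∀ i, Γ(Y, f ⁻¹ᵁ c.V i) at v'
  letI := g.hom.toAlgebra
  haveI : IsLocalization S B := hloc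
  have hden : ∀ b : B, ∃ r s, s ∈ S ∧ b * g s = g r := fun b => by
    obtain ⟨⟨r, ⟨s, hs⟩⟩, e⟩ := IsLocalization.surj S b
    exact ⟨r, s, hs, e⟩
  choose a ha x hx using fun i => exists_clear_denom ξ g S hden hsq (hV i) (v' i)
  let b : ι → A := fun i => ∏ j ∈ Finset.univ.erase i, a j
  have hab : ∀ i, a i * b i = ∏ j, a j := fun i => Finset.mul_prod_erase _ _ (Finset.mem_univ i)
  let v : ∀ i, Γ(W, c.V i) := fun i => ringMap ξ (c.V i) (b i) * x i
  have key : ∀ i, f.app (c.V i) (v i) = ringMap η (f ⁻¹ᵁ c.V i) (g (∏ j, a j)) * v' i := fun i => by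
    rw [map_mul, app_ringMap g hsq.toCommSq, hx, ← mul_assoc, ← map_mul, ← map_mul, mul_comm (b i), hab]
  have hdd : ∀ i j, f.app _ (c.dd v i j) = 0 := fun i j => by
    dsimp only [Coc.dd]
    rw [map_sub, map_mul (f.app (c.V i ⊓ c.V j)).hom (c.g i j), app_rs, app_rs, key, key, map_mul, map_mul,
      rs_ringMap, rs_ringMap]
    have h1 : rs (f.preimage_mono inf_le_left) (v' i) =
        f.app _ (c.g i j) * rs (f.preimage_mono inf_le_right) (v' j) := hv' i j
    linear_combination (ringMap η (f ⁻¹ᵁ (c.V i ⊓ c.V j)) (g (∏ j, a j))) * h1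
  choose s hs hsd using fun q : ι × ι => exists_kill ξ g S hloc hsq (hI q.1 q.2) _ (hdd q.1 q.2)
  let w : ∀ i, Γ(W, c.V i) := fun i => ringMap ξ (c.V i) (∏ q, s q) * v i
  have hw : c.Compat w := fun i j => by
    have h1 : ringMap ξ (c.V i ⊓ c.V j) (∏ q, s q) * c.dd v i j = 0 := by
      rw [← Finset.prod_erase_mul _ _ (Finset.mem_univ (i, j)), map_mul, mul_assoc, hsd (i, j), mul_zero]
    simp only [w, map_mul, rs_ringMap]
    rw [Coc.dd] at h1
    linear_combination h1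
  have hu : ∀ i, IsUnit (f.app (c.V i) (w i)) := fun i => by
    have hgu : ∀ t ∈ S, IsUnit (g t) := fun t ht => IsLocalization.map_units B ⟨t, ht⟩
    rw [map_mul, app_ringMap g hsq.toCommSq, key]
    exact ((hgu _ (prod_mem fun q _ => hs q)).map (ringMap η _).hom).mul
      (((hgu _ (prod_mem fun j _ => ha j)).map (ringMap η _).hom).mul (hv'u i))
  -- the closed complement of the non-vanishing locus avoids `p`
  have hC : IsClosed (ξ '' (c.NV w : Set W)ᶜ) := ξ.isClosedMap _ (c.NV w).isOpen.isClosed_compl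
  have hp : p ∈ (ξ '' (c.NV w : Set W)ᶜ)ᶜ := by
    rintro ⟨z, hz, hzp⟩
    have hzf : z ∈ Set.range f := by
      rw [← hsq.isoPullback_hom_fst, Scheme.Hom.comp_base, TopCat.coe_comp, Set.range_comp,
        Set.range_eq_univ.2 hsq.isoPullback.hom.surjective, Set.image_univ, Scheme.Pullback.range_fst]
      show ξ z ∈ Set.range (Spec.map g)
      rw [hzp]
      refine (PrimeSpectrum.localization_comap_range B S).ge ?_
      exact Set.disjoint_left.2 fun t ht ht' => ht ht'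
    obtain ⟨y, rfl⟩ := hzf
    obtain ⟨i, hi⟩ := Opens.mem_iSup.1 (hcov.ge (Opens.mem_top (f y)))
    refine hz (Opens.mem_iSup.2 ⟨i, ?_⟩)
    show y ∈ f ⁻¹ᵁ W.basicOpen (w i)
    rw [Scheme.preimage_basicOpen, Scheme.basicOpen_of_isUnit _ (hu i)]
    exact hi
  obtain ⟨_, ⟨b, rfl⟩, hpb, hb⟩ :=
    PrimeSpectrum.isTopologicalBasis_basic_opens.isOpen_iff.1 hC.isOpen_compl p hp
  refine ⟨b, hpb, fun {X} φ hφ => ⟨fun i => φ.app (c.V i) (w i), hw.pull φ, fun i => ?_⟩⟩
  refine RingedSpace.isUnit_of_isUnit_germ X.toRingedSpace _ _ fun z hz => ?_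
  refine (Scheme.mem_basicOpen _ (φ.app (c.V i) (w i)) z hz).1 ?_
  rw [← Scheme.preimage_basicOpen]
  show φ z ∈ W.basicOpen (w i)
  rw [← Coc.mem_NV hw (show φ z ∈ c.V i from hz)]
  by_contra hn
  exact hb (show ξ (φ z) ∈ ((PrimeSpectrum.basicOpen b : TopologicalSpace.Opens (PrimeSpectrum A)) : Set (PrimeSpectrum A)) from hφ z) ⟨φ z, hn, rfl⟩

end Groth.Agent.Seesaw22
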