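import Groth.Agent.Lib.Seesaw22.LocalAny
import Groth.Agent.Lib.Seesaw22.Spread
import Groth.Agent.Lib.Seesaw22.Closed
import Groth.Agent.Lib.PicPn.Family
import Groth.Agent.Lib.RigidRel.H0Geom
import Groth.Agent.Lib.ParaF27.UFDCrit
import Groth.Agent.Lib.CubeField.Cube

/-!
# The seesaw principle for families with two slices, over any base
-/

set_option autoImplicit false
set_option linter.style.haveILetI false
set_option linter.unusedSectionVars false
set_option backward.isDefEq.respectTransparency false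
set_option maxHeartbeats 1000000

universe u

open CategoryTheory Limits AlgebraicGeometry TopologicalSpace Opposite IsLocalRing

noncomputable section

namespace Groth.Agent.Seesaw22

open RigidRel CubeField

variable {W Z : Scheme.{u}} (π : W ⟶ Z) {κ : Type} {T : κ → Scheme.{u}} (j : ∀ s, T s ⟶ W)

/-- Over every field-valued point the slices detect additive coboundaries of the fibre. -/
def Detects : Prop :=
  ∀ (K : Type u) [Field K] (x : Spec (CommRingCat.of K) ⟶ Z),
    SlicesDetect (fun s => pullback.map (j s ≫ π) x π x (j s) (𝟙 _) (𝟙 _) (by simp) (by simp))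

/-- The slices are flat proper families with constant functions on their fibres. -/
structure GoodSlices : Prop where
  affine : ∀ s, IsAffineHom (j s)
  proper : ∀ s, IsProper (j s ≫ π)
  flat : ∀ s, Flat (j s ≫ π)
  lfp : ∀ s, LocallyOfFinitePresentation (j s ≫ π)
  surj : ∀ s, Surjective (j s ≫ π)
  const : ∀ s, ConstFibres (j s ≫ π)

variable {π} {j} [IsProper π] [Flat π] [LocallyOfFinitePresentation π] [Surjective π]
  (hπ : ConstFibres π) (hj : GoodSlices π j) (hdet : Detects π j) {L : W.Modules} (hL : PicF.IsInvertible L)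
  (hτ : ∀ s, IsTriv ((Scheme.Modules.pullback (j s)).obj L))

include hπ hj hdet hL hτ in
/-- Triviality on the fibre over a point with values in a local ring gives triviality over the local ring. -/
theorem isTriv_local {O : CommRingCat.{u}} [IsLocalRing O] (g : Spec O ⟶ Z)
    (h₀ : IsTriv ((Scheme.Modules.pullback
      (pullback.fst π (quotBase (maximalIdeal O) ≫ g))).obj L)) :
    IsTriv ((Scheme.Modules.pullback (pullback.fst π g)).obj L) := by
  let x := quotBase (maximalIdeal O) ≫ g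
  let f : pullback π x ⟶ pullback π g :=
    pullback.lift (pullback.fst π x) (pullback.snd π x ≫ quotBase (maximalIdeal O))
      (by rw [Category.assoc]; exact pullback.condition)
  have hsq : IsPullback f (pullback.snd π x) (pullback.snd π g) (quotBase (maximalIdeal O)) :=
    IsPullback.of_right (by rw [pullback.lift_fst]; exact IsPullback.of_hasPullback π x) (pullback.lift_snd _ _ _)
      (IsPullback.of_hasPullback π g)
  let jO : ∀ s, pullback (j s ≫ π) g ⟶ pullback π g := fun s =>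
    pullback.map (j s ≫ π) g π g (j s) (𝟙 _) (𝟙 _) (by simp) (by simp)
  have hjO : ∀ s, jO s ≫ pullback.snd π g = pullback.snd (j s ≫ π) g := fun s => by simp [jO]
  haveI : ∀ s, IsAffineHom (jO s) := fun s => by
    have h1 : IsPullback (jO s ≫ pullback.snd π g) (pullback.fst (j s ≫ π) g) g (j s ≫ π) := by
      rw [hjO]; exact (IsPullback.of_hasPullback _ _).flip
    have h2 := IsPullback.of_right h1 (by simp [jO]) (IsPullback.of_hasPullback π g).flip
    exact MorphismProperty.of_isPullback h2.flip (hj.affine s)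
  haveI : ∀ s, Flat (pullback.snd (j s ≫ π) g) := fun s => MorphismProperty.pullback_snd _ _ (hj.flat s)
  haveI : ∀ s, IsProper (pullback.snd (j s ≫ π) g) := fun s => MorphismProperty.pullback_snd _ _ (hj.proper s)
  haveI : ∀ s, LocallyOfFinitePresentation (pullback.snd (j s ≫ π) g) := fun s =>
    MorphismProperty.pullback_snd _ _ (hj.lfp s)
  haveI : ∀ s, Surjective (pullback.snd (j s ≫ π) g) := fun s => MorphismProperty.pullback_snd _ _ (hj.surj s)
  letI : Field (O ⧸ maximalIdeal O) := Ideal.Quotient.field _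
  let q : ∀ s, pullback (j s ≫ π) x ⟶ pullback (j s ≫ π) g := fun s =>
    pullback.lift (pullback.fst _ _) (pullback.snd _ _ ≫ quotBase (maximalIdeal O))
      (by rw [pullback.condition, Category.assoc])
  refine isTriv_of_slices (pullback.snd π g) hsq (fun s => pullback (j s ≫ π) g) (fun s => pullback (j s ≫ π) x)
    (fun s => pullback.snd (j s ≫ π) g) (fun s => (hj.const s).baseChange g) jO
    (fun s => pullback.map (j s ≫ π) x π x (j s) (𝟙 _) (𝟙 _) (by simp) (by simp)) q (fun s => ?_) hjO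
    (hdet (O ⧸ maximalIdeal O) x) (hπ.baseChange g) (PicLoc.isInvertible_pullback _ hL) (fun s => ?_) ?_
  · ext1 <;> simp [q, jO, f]
  · refine (isTriv_comp_iff _ _ L).2 (isTriv_of_eq (f := pullback.fst (j s ≫ π) g ≫ j s) (by simp [jO]) ?_)
    exact (isTriv_comp_iff _ _ L).1 ((hτ s).pullback _)
  · exact (isTriv_comp_iff _ _ L).2 (isTriv_of_eq (pullback.lift_fst _ _ _).symm h₀)

include hπ hj hdet hL hτ in
/-- Triviality on a fibre gives a generator over a neighbourhood. -/
theorem exists_gen_nhd (z : Z)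
    (h : IsTriv ((Scheme.Modules.pullback (π.fiberι z)).obj L)) :
    ∃ (U : Z.Opens) (σ : Γ(L, π ⁻¹ᵁ U)), z ∈ U ∧ Twist.IsGen L (π ⁻¹ᵁ U) σ := by
  have hstalk : IsTriv ((Scheme.Modules.pullback (pullback.fst π (Z.fromSpecStalk z))).obj L) :=
    isTriv_local (O := Z.presheaf.stalk z) hπ hj hdet hL hτ (Z.fromSpecStalk z) h
  obtain ⟨V, hV, hzV, -⟩ := exists_isAffineOpen_mem_and_subset (X := Z) (x := z) (U := ⊤) trivial
  let ξ := pullback.snd π hV.fromSpec
  let germ := Z.presheaf.germ V z hzV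
  have hg : Spec.map germ ≫ hV.fromSpec = Z.fromSpecStalk z := hV.fromSpecStalk_eq_fromSpecStalk hzV
  let f : pullback π (Z.fromSpecStalk z) ⟶ pullback π hV.fromSpec :=
    pullback.lift (pullback.fst _ _) (pullback.snd _ _ ≫ Spec.map germ)
      (by rw [Category.assoc, hg]; exact pullback.condition)
  have hsq : IsPullback f (pullback.snd π (Z.fromSpecStalk z)) ξ (Spec.map germ) :=
    IsPullback.of_right (by rw [pullback.lift_fst, hg]; exact IsPullback.of_hasPullback π _)
      (pullback.lift_snd _ _ _) (IsPullback.of_hasPullback π hV.fromSpec)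
  haveI : CompactSpace ↥(pullback π hV.fromSpec) := QuasiCompact.compactSpace_of_compactSpace ξ
  obtain ⟨n, c, hcV, hcov, ⟨Tr⟩⟩ := exists_triv _ (PicLoc.isInvertible_pullback (pullback.fst π hV.fromSpec) hL)
  have hf : (c.pull f).Trivial := (Tr.pull_iso_iff hcov f).1
    ((isTriv_comp_iff _ _ L).2 (isTriv_of_eq (pullback.lift_fst _ _ _).symm hstalk))
  obtain ⟨b, hb, hnhd⟩ := exists_trivial_nhd ξ (hV.primeIdealOf ⟨z, hzV⟩) germ
    (hV.isLocalization_stalk ⟨z, hzV⟩) hsq c hcov hcV hf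
  let U : Z.Opens := Z.basicOpen b
  have hUV : U ≤ V := Z.basicOpen_le b
  have hmem : ∀ p : Spec Γ(Z, V), hV.fromSpec p ∈ Z.basicOpen b ↔ b ∉ p.asIdeal := fun p => by
    have e := hV.fromSpec_preimage_basicOpen b
    exact ⟨fun h => by
      have : p ∈ hV.fromSpec ⁻¹ᵁ Z.basicOpen b := h
      rwa [e] at this, fun h => by
      show p ∈ hV.fromSpec ⁻¹ᵁ Z.basicOpen b
      rw [e]; exact h⟩
  have hzU : z ∈ U := by
    have h1 := (hmem (hV.primeIdealOf ⟨z, hzV⟩)).2 hb
    rwa [hV.fromSpec_primeIdealOf] at h1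
  have hrange : Set.range ((π ⁻¹ᵁ U).ι ≫ π) ⊆ Set.range hV.fromSpec := by
    rw [hV.range_fromSpec]
    rintro _ ⟨y, rfl⟩
    exact hUV y.2
  let φ : ((π ⁻¹ᵁ U : W.Opens) : Scheme.{u}) ⟶ pullback π hV.fromSpec :=
    pullback.lift (π ⁻¹ᵁ U).ι (IsOpenImmersion.lift hV.fromSpec ((π ⁻¹ᵁ U).ι ≫ π) hrange)
      (IsOpenImmersion.lift_fac _ _ _).symm
  have hφ : IsTriv ((Scheme.Modules.pullback φ).obj ((Scheme.Modules.pullback (pullback.fst π hV.fromSpec)).obj L)) := by
    refine (Tr.pull_iso_iff hcov φ).2 (hnhd φ fun y => (hmem _).1 ?_)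
    have e : φ ≫ ξ ≫ hV.fromSpec = (π ⁻¹ᵁ U).ι ≫ π := by
      rw [← Category.assoc, pullback.lift_snd, IsOpenImmersion.lift_fac]
    rw [← Scheme.Hom.comp_apply, ← Scheme.Hom.comp_apply, e]
    exact y.2
  obtain ⟨e⟩ := isTriv_of_eq (pullback.lift_fst _ _ _) ((isTriv_comp_iff _ _ L).1 hφ)
  obtain ⟨σ, hσ⟩ := ParaF27.exists_isGen_of_iso
    ((Scheme.Modules.restrictFunctorIsoPullback (π ⁻¹ᵁ U).ι).app L ≪≫ e)
  exact ⟨U, σ, hzU, hσ⟩

include hπ in
theorem bijective_app (V : Z.Opens) : Function.Bijective (π.app V).hom :=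
  haveI := RigidRel.isIso_app_of_bijective π (fun _ hU => bijective_app' π hπ hU) V
  ConcreteCategory.bijective_of_isIso (π.app V)

include hπ hj hdet hL hτ in
/-- A family trivial on all fibres over an open, and along a section, is trivial over that open. -/
theorem isTriv_preimage (σ : Z ⟶ W) (hσ : σ ≫ π = 𝟙 Z) (hσL : IsTriv ((Scheme.Modules.pullback σ).obj L))
    (U : Z.Opens) (hU : ∀ z ∈ U, IsTriv ((Scheme.Modules.pullback (π.fiberι z)).obj L)) :
    IsTriv ((Scheme.Modules.pullback (π ⁻¹ᵁ U).ι).obj L) := by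
  let π' := π ∣_ U
  have hsq : IsPullback (π ∣_ U) (π ⁻¹ᵁ U).ι U.ι π := isPullback_morphismRestrict π U
  haveI : Surjective π' := MorphismProperty.of_isPullback hsq.flip ‹Surjective π›
  haveI : Flat π' := MorphismProperty.of_isPullback hsq.flip ‹Flat π›
  haveI : LocallyOfFinitePresentation π' := MorphismProperty.of_isPullback hsq.flip ‹LocallyOfFinitePresentation π›
  have hπ' : ConstFibres π' := fun K _ x => by
    have h1 : IsPullback (pullback.fst π' x ≫ (π ⁻¹ᵁ U).ι) (pullback.snd π' x) π (x ≫ U.ι) :=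
      (IsPullback.of_hasPullback π' x).paste_horiz hsq.flip
    exact appTop_surjective_of_iso h1.isoPullback _ _ h1.isoPullback_hom_snd (hπ K _)
  let L' := (Scheme.Modules.pullback (π ⁻¹ᵁ U).ι).obj L
  have hgens : ∀ z : U, ∃ (V : (U : Scheme.{u}).Opens) (s : Γ(L', π' ⁻¹ᵁ V)),
      z ∈ V ∧ Twist.IsGen L' (π' ⁻¹ᵁ V) s := fun z => by
    obtain ⟨V, s, hzV, hs⟩ := exists_gen_nhd hπ hj hdet hL hτ z.1 (hU z.1 z.2)
    have e : π' ⁻¹ᵁ (U.ι ⁻¹ᵁ V) = (π ⁻¹ᵁ U).ι ⁻¹ᵁ (π ⁻¹ᵁ V) := by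
      rw [← Scheme.Hom.comp_preimage, ← Scheme.Hom.comp_preimage, morphismRestrict_ι]
    exact ⟨U.ι ⁻¹ᵁ V, M1.mres L' e.le (M2.pullSec (π ⁻¹ᵁ U).ι L s), hzV, (hs.pullback _).mres e.le⟩
  choose V s hzV hs using hgens
  obtain ⟨N, -, ⟨φ⟩⟩ := PicPn.exists_descend π' (fun V => bijective_app hπ' V) V
    (top_le_iff.1 fun z _ => Opens.mem_iSup.2 ⟨z, hzV z⟩) s hs
  -- the section normalises the module on the base
  have hrange : Set.range (U.ι ≫ σ) ⊆ Set.range (π ⁻¹ᵁ U).ι := by
    rw [Scheme.Opens.range_ι]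
    rintro _ ⟨y, rfl⟩
    show π (σ y.1) ∈ U
    rw [← Scheme.Hom.comp_apply, hσ]
    exact y.2
  let σ' := IsOpenImmersion.lift (π ⁻¹ᵁ U).ι (U.ι ≫ σ) hrange
  have hσ' : σ' ≫ π' = 𝟙 (U : Scheme.{u}) := by
    rw [← cancel_mono U.ι, Category.assoc, morphismRestrict_ι, IsOpenImmersion.lift_fac_assoc, Category.assoc, hσ,
      Category.comp_id, Category.id_comp]
  have hN : IsTriv N := by
    obtain ⟨e⟩ : IsTriv ((Scheme.Modules.pullback σ').obj L') :=
      (isTriv_comp_iff _ _ L).2 (isTriv_of_eq (IsOpenImmersion.lift_fac _ _ _).symm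
        ((isTriv_comp_iff _ _ L).1 (hσL.pullback U.ι)))
    exact ⟨((Scheme.Modules.pullbackId (U : Scheme.{u})).app N).symm ≪≫
      (Scheme.Modules.pullbackCongr hσ').symm.app N ≪≫ ((Scheme.Modules.pullbackComp σ' π').app N).symm ≪≫
      (Scheme.Modules.pullback σ').mapIso φ.symm ≪≫ e⟩
  obtain ⟨e⟩ := hN.pullback π'
  exact ⟨φ ≪≫ e⟩

/-- Modules with a generator over an open are trivial on the fibres above it. -/
theorem isTriv_fibre_of_gen {U : Z.Opens} {s : Γ(L, π ⁻¹ᵁ U)} (hs : Twist.IsGen L (π ⁻¹ᵁ U) s) {y : Z}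
    (hy : y ∈ U) : IsTriv ((Scheme.Modules.pullback (π.fiberι y)).obj L) := by
  have e : π.fiberι y ⁻¹ᵁ (π ⁻¹ᵁ U) = ⊤ := top_le_iff.1 fun x _ => by
    show π (π.fiberι y x) ∈ U
    rw [show π (π.fiberι y x) = y from (π.range_fiberι y).le ⟨x, rfl⟩]
    exact hy
  obtain ⟨φ⟩ := Twist.nonempty_iso_of_generator ((Scheme.Modules.pullback (π.fiberι y)).obj L)
    (M1.mres _ e.ge (M2.pullSec (π.fiberι y) L s)) fun V => ((hs.pullback _).mres e.ge) V le_top
  exact ⟨φ⟩

include hπ hj hdet hL hτ in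
/-- The seesaw principle: triviality on one fibre spreads to an open and closed neighbourhood. -/
theorem exists_clopen (hint : ∀ y : Z, IsIntegral (π.fiber y)) (σ : Z ⟶ W) (hσ : σ ≫ π = 𝟙 Z)
    (hσL : IsTriv ((Scheme.Modules.pullback σ).obj L)) (z : Z)
    (h : IsTriv ((Scheme.Modules.pullback (π.fiberι z)).obj L)) :
    ∃ U : Z.Opens, IsClosed (U : Set Z) ∧ z ∈ U ∧ IsTriv ((Scheme.Modules.pullback (π ⁻¹ᵁ U).ι).obj L) := by
  let S : Set Z := {y | IsTriv ((Scheme.Modules.pullback (π.fiberι y)).obj L)}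
  have hop : IsOpen S := isOpen_iff_forall_mem_open.2 fun y hy => by
    obtain ⟨U, s, hyU, hs⟩ := exists_gen_nhd hπ hj hdet hL hτ y hy
    exact ⟨U, fun y' hy' => isTriv_fibre_of_gen hs hy', U.isOpen, hyU⟩
  exact ⟨⟨S, hop⟩, isClosed_trivial π hint hL, h,
    isTriv_preimage hπ hj hdet hL hτ σ hσ hσL ⟨S, hop⟩ fun _ hy => hy⟩

include hπ hj hdet hL hτ in
/-- A family trivial on all fibres and along a section is trivial. -/
theorem isTriv_of_fibres (σ : Z ⟶ W) (hσ : σ ≫ π = 𝟙 Z) (hσL : IsTriv ((Scheme.Modules.pullback σ).obj L))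
    (hall : ∀ z, IsTriv ((Scheme.Modules.pullback (π.fiberι z)).obj L)) : IsTriv L := by
  have h := isTriv_preimage hπ hj hdet hL hτ σ hσ hσL ⊤ fun z _ => hall z
  let e : ((π ⁻¹ᵁ (⊤ : Z.Opens) : W.Opens) : Scheme.{u}) ≅ W := W.topIso
  obtain ⟨i⟩ := isTriv_of_eq (show e.inv ≫ (π ⁻¹ᵁ (⊤ : Z.Opens)).ι = 𝟙 W from e.inv_hom_id)
    ((isTriv_comp_iff _ _ L).1 (h.pullback e.inv))
  exact ⟨((Scheme.Modules.pullbackId W).app L).symm ≪≫ i⟩

end Groth.Agent.Seesaw22
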