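import Groth.Agent.Lib.Seesaw22.Rep
import Groth.Agent.Lib.CubeField.DvrCube
import Groth.Agent.Lib.LimShf14.Pic
import Groth.Agent.Lib.PicPn.NearFibre
import Mathlib.RingTheory.SimpleModule.Basic
import Mathlib.RingTheory.Finiteness.Nakayama

/-!
# Seesaw over an arbitrary local ring

The obstruction to extending a trivialisation is given by a finitely generated ideal `I`; small extensions show
`I = 𝔪 I`, hence `I = 0`.
-/

set_option autoImplicit false
set_option linter.style.haveILetI false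
set_option linter.unusedSectionVars false
set_option backward.isDefEq.respectTransparency false
set_option maxHeartbeats 1000000

universe u

open CategoryTheory Limits AlgebraicGeometry TopologicalSpace Opposite IsLocalRing

noncomputable section

namespace Groth.Agent.Seesaw22

open RigidRel CubeField

attribute [local instance] CBC10.secA

theorem mk_smul_one {A : Type u} [CommRing A] (J : Ideal A) (a : A) :
    a • (1 : A ⧸ J) = Ideal.Quotient.mk J a :=
  (Submodule.Quotient.mk_smul J a (1 : A)).symm.trans (by rw [smul_eq_mul, mul_one]; rfl)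

variable {A : CommRingCat.{u}} [IsLocalRing A] {W : Scheme.{u}} (ξ : W ⟶ Spec A) [Flat ξ] [IsSeparated ξ]
  {ι : Type} (c : Coc W ι) (hcov : ⨆ i, c.V i = ⊤) (hV : ∀ i, IsAffineOpen (c.V i))
  {W₀ : Scheme.{u}} {η : W₀ ⟶ Spec (CommRingCat.of (A ⧸ maximalIdeal A))}
  {f : W₀ ⟶ W} (hsq : IsPullback f η ξ (quotBase (maximalIdeal A)))
  {κ : Type} (T T₀ : κ → Scheme.{u}) (ρ : ∀ s, T s ⟶ Spec A) [∀ s, Flat (ρ s)] [∀ s, IsSeparated (ρ s)]
  [∀ s, QuasiCompact (ρ s)] [∀ s, LocallyOfFinitePresentation (ρ s)] [∀ s, Surjective (ρ s)]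
  (hρ : ∀ s, ConstFibres (ρ s)) (j : ∀ s, T s ⟶ W) [∀ s, IsAffineHom (j s)] (j₀ : ∀ s, T₀ s ⟶ W₀)
  (q : ∀ s, T₀ s ⟶ T s) (hjq : ∀ s, q s ≫ j s = j₀ s ≫ f) (hj : ∀ s, j s ≫ ξ = ρ s)
  (hτ : ∀ s, (c.pull (j s)).Trivial) (hinj : SlicesDetect j₀)
  {v₀ : ∀ i, Γ(W₀, f ⁻¹ᵁ c.V i)} (hv₀ : (c.pull f).Compat v₀) (hv₀u : ∀ i, IsUnit (v₀ i))

include hcov hV hsq hρ hjq hj hτ hinj hv₀ hv₀u in
/-- Finitely many small steps. -/
theorem trivMod_span {J : Ideal A} (t : Finset A) (ht : ∀ e ∈ t, e ∈ maximalIdeal A)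
    (hmul : ∀ e ∈ t, ∀ a ∈ maximalIdeal A, e * a ∈ J)
    (h : TrivMod ξ c f v₀ (J ⊔ Ideal.span (t : Set A))) : TrivMod ξ c f v₀ J := by
  classical
  induction t using Finset.induction_on with
  | empty => simpa using h
  | insert e t _ ih =>
    refine ih (fun x hx => ht x (Finset.mem_insert_of_mem hx)) (fun x hx => hmul x (Finset.mem_insert_of_mem hx)) ?_
    refine trivMod_step ξ c hcov hV hsq T T₀ ρ hρ j j₀ q hjq hj hτ hinj hv₀ hv₀u
      (e := e) (ht e (Finset.mem_insert_self e t))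
      (fun a ha => Ideal.mem_sup_left (hmul e (Finset.mem_insert_self e t) a ha)) ?_
    rwa [sup_assoc, ← Ideal.span_union, Set.union_singleton, ← Finset.coe_insert]

include hsq hv₀u in
/-- An exact lift of the trivialisation of the closed fibre trivialises. -/
theorem trivial_of_trivMod_bot [UniversallyClosed ξ] (hcov : ⨆ i, c.V i = ⊤)
    (h : TrivMod ξ c f v₀ ⊥) : c.Trivial := by
  obtain ⟨v, hv, hdv⟩ := h
  have hc : c.Compat v := fun i i' => by
    have h1 := hdv i i'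
    rw [Ideal.map_bot, Ideal.mem_bot, Coc.dd, sub_eq_zero] at h1
    exact h1
  refine ⟨v, hc, Coc.isUnit_of_NV hc fun z => ?_⟩
  obtain ⟨w, hzw, hw⟩ : ∃ w, z ⤳ w ∧ ξ w = closedPoint A := by
    have h1 : IsClosed (ξ '' closure {z}) := ξ.isClosedMap _ isClosed_closure
    have h2 : ξ z ∈ ξ '' closure {z} := ⟨z, subset_closure rfl, rfl⟩
    obtain ⟨w, hw, hwe⟩ := (IsLocalRing.specializes_closedPoint (ξ z)).mem_closed h1 h2
    exact ⟨w, specializes_iff_mem_closure.2 hw, hwe⟩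
  refine hzw.mem_open (c.NV v).isOpen ?_
  have hwr : w ∈ Set.range f := by
    rw [← hsq.isoPullback_hom_fst, Scheme.Hom.comp_base, TopCat.coe_comp, Set.range_comp,
      Set.range_eq_univ.2 hsq.isoPullback.hom.surjective, Set.image_univ, Scheme.Pullback.range_fst]
    show ξ w ∈ Set.range (quotBase (maximalIdeal A))
    rw [show Set.range (quotBase (maximalIdeal A)) = PrimeSpectrum.zeroLocus (maximalIdeal A : Set A) from
        (range_comap_of_surjective _ _ Ideal.Quotient.mk_surjective).trans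
          (congrArg (fun I : Ideal A => PrimeSpectrum.zeroLocus (I : Set A)) Ideal.mk_ker),
      hw, PrimeSpectrum.mem_zeroLocus]
    exact subset_rfl
  obtain ⟨y, rfl⟩ := hwr
  obtain ⟨i, hi⟩ := Opens.mem_iSup.1 (hcov.ge (Opens.mem_top (f y)))
  refine Opens.mem_iSup.2 ⟨i, ?_⟩
  show y ∈ f ⁻¹ᵁ W.basicOpen (v i)
  rw [Scheme.preimage_basicOpen, hv, Scheme.basicOpen_of_isUnit _ (hv₀u i)]
  exact hi

include hcov hsq hv₀ hv₀u in
/-- On the closed fibre every section is a constant multiple of the trivialisation. -/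
theorem exists_const_mul [IsProper η] [Flat η] [LocallyOfFinitePresentation η] [Surjective η] (hη : ConstFibres η)
    {w : ∀ i, Γ(W₀, f ⁻¹ᵁ c.V i)} (hw : (c.pull f).Compat w) :
    ∃ a : A, ∀ i, w i = f.app (c.V i) (ringMap ξ (c.V i) a) * v₀ i := by
  let v' : ∀ i, Γ(W₀, f ⁻¹ᵁ c.V i) := fun i => ((hv₀u i).unit⁻¹ : (Γ(W₀, f ⁻¹ᵁ c.V i))ˣ).val
  have hvv' : ∀ i, v₀ i * v' i = 1 := fun i => (hv₀u i).mul_val_inv
  have hcov₀ : ⨆ i, (c.pull f).V i = ⊤ := by
    show ⨆ i, f ⁻¹ᵁ c.V i = ⊤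
    rw [← Scheme.Hom.preimage_iSup, hcov]; rfl
  obtain ⟨F, hF⟩ := (c.pull f).exists_glue_mul hcov₀ hw (Coc.compat_inv_of_mul_eq_one (c := c.pull f) hv₀ hvv')
  obtain ⟨r, rfl⟩ := (bijective_ringMap η hη).2 F
  obtain ⟨a, rfl⟩ := Ideal.Quotient.mk_surjective r
  refine ⟨a, fun i => ?_⟩
  have h1 : ringMap η (f ⁻¹ᵁ c.V i) (Ideal.Quotient.mk _ a) = w i * v' i := (rs_ringMap _ _).symm.trans (hF i)
  rw [app_ringMap _ hsq.toCommSq]
  show w i = ringMap η (f ⁻¹ᵁ c.V i) (Ideal.Quotient.mk _ a) * v₀ i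
  rw [h1, mul_assoc, mul_comm (v' i), hvv', mul_one]

include hcov hV hsq hρ hjq hj hτ hinj hv₀ hv₀u in
/-- Seesaw over a local ring, in terms of transition functions. -/
theorem trivial_of_slices [IsProper ξ] [LocallyOfFinitePresentation ξ] [Surjective ξ] (hξ : ConstFibres ξ)
    {L : W.Modules} (hL : PicF.IsInvertible L) (Tr : Triv L c) : c.Trivial := by
  classical
  letI : W.Over (Spec (CommRingCat.of A)) := ⟨ξ⟩
  haveI : IsProper (W ↘ Spec (CommRingCat.of A)) := inferInstanceAs (IsProper ξ)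
  haveI : LocallyOfFinitePresentation (W ↘ Spec (CommRingCat.of A)) :=
    inferInstanceAs (LocallyOfFinitePresentation ξ)
  haveI : W.IsSeparated := ⟨by rw [← Limits.terminal.comp_from ξ]; infer_instance⟩
  have hI : ∀ i i', IsAffineOpen (c.V i ⊓ c.V i') := fun i i' => (hV i).inf (hV i')
  haveI hLq : Coh.IsQCoh L := Twist.isQCoh_of_isInvertible hL
  have hfl : FlatMod.IsFlatOver (W ↘ Spec (CommRingCat.of A)) L :=
    DPerf.isFlatOver_of_isFlat ξ (M := L) fun x =>
      KFlat.Sch.isFlat_of_isFinLocFree (M2.isFinLocFree_of_isInvertible hL) x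
  obtain ⟨Q, hQ, ⟨Φ⟩⟩ := exists_corep_fp A L (LimShf14.isFP_of_isInvertible hL) hfl
  let E : ∀ M : ModuleCat.{u} A, Γ(CohIII.tensorA A L M, ⊤) → (Q ⟶ M) := fun M s =>
    (Φ.hom.app M).hom ((CBC10.tensorAIso A L M).inv.app ⊤ s)
  have hEnat : ∀ {M M' : ModuleCat.{u} A} (g : M ⟶ M') (s : Γ(CohIII.tensorA A L M, ⊤)),
      E M' ((CBC10.psi A L g).app ⊤ s) = E M s ≫ g := fun {M M'} g s => by
    have h1 : (CBC10.tensorAIso A L M').inv.app ⊤ ((CBC10.psi A L g).app ⊤ s) =
        ((CohIII.tensorAFunctor A L).map g).app ⊤ ((CBC10.tensorAIso A L M).inv.app ⊤ s) :=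
      congrArg (fun φ => φ.app ⊤ s) (CBC10.psi_tensorAIso A L g)
    show (Φ.hom.app M').hom _ = _
    rw [h1]
    exact ConcreteCategory.congr_hom (Φ.hom.naturality g) ((CBC10.tensorAIso A L M).inv.app ⊤ s)
  have hEinj : ∀ M, Function.Injective (E M) := fun M => by
    have h1 : Function.Injective ((CBC10.tensorAIso A L M).inv.app ⊤) :=
      (ConcreteCategory.bijective_of_isIso _).1
    exact fun s s' h => h1 ((ConcreteCategory.bijective_of_isIso (Φ.hom.app M)).1 h)
  have hEsurj : ∀ M (φ : Q ⟶ M), ∃ s, E M s = φ := fun M φ => by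
    obtain ⟨z, hz⟩ := (ConcreteCategory.bijective_of_isIso (Φ.hom.app M)).2 φ
    obtain ⟨s, hs⟩ := (ConcreteCategory.bijective_of_isIso ((CBC10.tensorAIso A L M).inv.app ⊤)).2 z
    exact ⟨s, by show (Φ.hom.app M).hom ((CBC10.tensorAIso A L M).inv.app ⊤ s) = φ; rw [hs]; exact hz⟩
  let m : Ideal A := maximalIdeal A
  let g₀ := CommRingCat.ofHom (Ideal.Quotient.mk m)
  have hker : RingHom.ker g₀.hom = m := Ideal.mk_ker
  have hf0 : ∀ {U : W.Opens}, IsAffineOpen U → ∀ x : Γ(W, U),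
      f.app U x = 0 ↔ x ∈ m.map (ringMap ξ U).hom := fun {U} hU x => by
    rw [app_eq_zero_iff g₀ hsq hU, hker]
  -- the class of the trivialisation of the closed fibre
  choose v₁ hv₁ using fun i => app_surjective g₀ hsq (hV i) Ideal.Quotient.mk_surjective (v₀ i)
  have hd₁ : ∀ i i', c.dd v₁ i i' ∈ m.map (ringMap ξ (c.V i ⊓ c.V i')).hom := fun i i' => by
    rw [← hf0 (hI i i'), Coc.dd, map_sub, map_mul, app_rs, app_rs, hv₁, hv₁, sub_eq_zero]
    exact hv₀ i i'
  obtain ⟨u₀, hu₀⟩ := exists_rep Tr hcov m v₁ hd₁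
  let φ₀ : Q ⟶ ModuleCat.of A (A ⧸ m) := E _ u₀
  haveI : IsProper η := MorphismProperty.of_isPullback hsq inferInstance
  haveI : Flat η := MorphismProperty.of_isPullback hsq inferInstance
  haveI : LocallyOfFinitePresentation η := MorphismProperty.of_isPullback hsq inferInstance
  haveI : Surjective η := MorphismProperty.of_isPullback hsq inferInstance
  have hη : ConstFibres η := fun K _ x => by
    have hsq' : IsPullback (pullback.fst η x ≫ f) (pullback.snd η x) ξ (x ≫ quotBase m) :=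
      (IsPullback.of_hasPullback η x).paste_horiz hsq
    exact appTop_surjective_of_iso hsq'.isoPullback _ _ hsq'.isoPullback_hom_snd (hξ K _)
  -- every functional to the residue field is a multiple of `φ₀`
  have hone : ∀ φ : Q ⟶ ModuleCat.of A (A ⧸ m), ∃ a : A, ∀ x, φ.hom x = a • φ₀.hom x := fun φ => by
    obtain ⟨s, rfl⟩ := hEsurj _ φ
    obtain ⟨v, hv, hdv⟩ := exists_fam Tr hV hI hLq m s
    have hw : (c.pull f).Compat fun i => f.app (c.V i) (v i) := fun i i' => by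
      have h1 := (hf0 (hI i i') _).2 (hdv i i')
      rw [Coc.dd, map_sub, map_mul, app_rs, app_rs, sub_eq_zero] at h1
      exact h1
    obtain ⟨a, ha⟩ := exists_const_mul ξ c hcov hsq hv₀ hv₀u hη hw
    let g : ModuleCat.of A (A ⧸ m) ⟶ ModuleCat.of A (A ⧸ m) := ModuleCat.ofHom (a • LinearMap.id)
    have hs : s = (CBC10.psi A L g).app ⊤ u₀ :=
      hv.unique Tr hcov (hu₀.map Tr g a (mk_smul_one m a)) fun i => (hf0 (hV i) _).1 (by
        rw [map_sub, ha i]
        show _ - f.app (c.V i) (ringMap ξ (c.V i) a * v₁ i) = 0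
        rw [map_mul, hv₁, sub_self])
    refine ⟨a, fun x => ?_⟩
    rw [hs, hEnat]
    rfl
  -- `φ₀` is not zero
  obtain ⟨x₁, hx₁⟩ : ∃ x, φ₀.hom x ≠ 0 := by
    by_contra hne
    push Not at hne
    let g : ModuleCat.of A (A ⧸ m) ⟶ ModuleCat.of A (A ⧸ m) := ModuleCat.ofHom ((0 : A) • LinearMap.id)
    have hu : u₀ = (CBC10.psi A L g).app ⊤ u₀ := hEinj _ (by
      rw [hEnat]
      refine ModuleCat.hom_ext (LinearMap.ext fun x => ?_)
      show φ₀.hom x = (0 : A) • φ₀.hom x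
      rw [zero_smul]; exact hne x)
    have h0 : ∀ i, v₀ i = 0 := fun i => by
      have hm := hu₀.map Tr g 0 (mk_smul_one m 0)
      rw [← hu] at hm
      have h1 : v₁ i - ringMap ξ (c.V i) 0 * v₁ i ∈ m.map (ringMap ξ (c.V i)).hom :=
        Rep.sub_mem Tr hV hLq hu₀ hm i
      rw [← hf0 (hV i), map_zero, zero_mul, sub_zero, hv₁] at h1
      exact h1
    obtain ⟨p, -⟩ := η.surjective (Classical.arbitrary _)
    obtain ⟨i, hi⟩ := Opens.mem_iSup.1 (hcov.ge (Opens.mem_top (f p)))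
    have h1 := Scheme.basicOpen_of_isUnit _ (hv₀u i)
    rw [h0 i, Scheme.basicOpen_zero] at h1
    exact (h1.ge (show p ∈ f ⁻¹ᵁ c.V i from hi) : p ∈ (⊥ : W₀.Opens))
  haveI : m.IsMaximal := IsLocalRing.maximalIdeal.isMaximal A
  obtain ⟨x, hx⟩ : ∃ x, φ₀.hom x = Ideal.Quotient.mk m 1 := by
    obtain ⟨a, ha⟩ := Ideal.Quotient.mk_surjective (φ₀.hom x₁)
    have hau : a ∉ m := fun h => hx₁ (by rw [← ha]; exact Ideal.Quotient.eq_zero_iff_mem.2 h)
    obtain ⟨b, hb⟩ := (IsLocalRing.notMem_maximalIdeal.1 hau).exists_left_inv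
    refine ⟨b • x₁, ?_⟩
    rw [map_smul, ← ha]
    exact (Submodule.Quotient.mk_smul m b a).symm.trans (congrArg _ hb)
  -- `Q` is generated by `x`
  let θ : A →ₗ[A] Q := LinearMap.toSpanSingleton A Q x
  have hθ : Function.Surjective θ := by
    rw [← LinearMap.range_eq_top]
    by_contra hne
    have hne' : LinearMap.range θ ⊔ m • ⊤ ≠ (⊤ : Submodule A Q) := fun h => hne (top_le_iff.1
      (Submodule.le_of_le_smul_of_le_jacobson_bot (I := m) Module.Finite.fg_top
        (by rw [IsLocalRing.jacobson_eq_maximalIdeal ⊥ bot_ne_top]) h.ge))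
    obtain ⟨Q₁, hQ₁, hle⟩ := (eq_top_or_exists_le_coatom (LinearMap.range θ ⊔ m • (⊤ : Submodule A Q))).resolve_left hne'
    obtain ⟨I, hI', ⟨e⟩⟩ := isSimpleModule_iff_quot_maximal.1 (isSimpleModule_iff_isCoatom.2 hQ₁)
    obtain rfl : I = m := IsLocalRing.eq_maximalIdeal hI'
    obtain ⟨a, ha⟩ := hone (ModuleCat.ofHom (e.toLinearMap ∘ₗ Q₁.mkQ))
    have hx0 : Q₁.mkQ x = 0 := (Submodule.Quotient.mk_eq_zero Q₁).2
      (hle (Submodule.mem_sup_left ⟨1, one_smul A x⟩))
    have h1 := ha x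
    rw [hx] at h1
    change e (Q₁.mkQ x) = _ at h1
    rw [hx0, map_zero] at h1
    have ham : a ∈ m := Ideal.Quotient.eq_zero_iff_mem.1 (by
      refine Eq.trans ?_ h1.symm
      exact (mk_smul_one m a).symm.trans (congrArg (a • ·) (map_one (Ideal.Quotient.mk m)).symm))
    refine hQ₁.1 (top_le_iff.1 fun y _ => ?_)
    refine (Submodule.Quotient.mk_eq_zero Q₁).1 (e.injective ?_)
    rw [map_zero]
    refine (ha y).trans ?_
    obtain ⟨b, hb⟩ := Ideal.Quotient.mk_surjective (φ₀.hom y)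
    rw [← hb]
    exact (Submodule.Quotient.mk_smul m a b).symm.trans
      (Ideal.Quotient.eq_zero_iff_mem.2 (m.mul_mem_right b ham))
  let I : Ideal A := LinearMap.ker θ
  have hIfg : I.FG := Module.FinitePresentation.fg_ker θ hθ
  have hIm : I ≤ m := fun a ha => by
    have h1 : φ₀.hom (θ a) = 0 := by rw [show θ a = 0 from ha, map_zero]
    rw [LinearMap.toSpanSingleton_apply, map_smul, hx] at h1
    refine Ideal.Quotient.eq_zero_iff_mem.1 ?_
    rw [← h1, map_one]
    exact (mk_smul_one m a).symm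
  -- the trivialisation extends modulo `I`
  have hTI : TrivMod ξ c f v₀ I := by
    let e : (A ⧸ I) ≃ₗ[A] Q := θ.quotKerEquivOfSurjective hθ
    obtain ⟨s, hs⟩ := hEsurj _ (ModuleCat.ofHom e.symm.toLinearMap : Q ⟶ ModuleCat.of A (A ⧸ I))
    let g : ModuleCat.of A (A ⧸ I) ⟶ ModuleCat.of A (A ⧸ m) := ModuleCat.ofHom (Submodule.factor hIm)
    obtain ⟨v, hv, hdv⟩ := exists_fam Tr hV hI hLq I s
    have hu : (CBC10.psi A L g).app ⊤ s = u₀ := hEinj _ (by
      rw [hEnat, hs]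
      refine ModuleCat.hom_ext (LinearMap.ext fun y => ?_)
      obtain ⟨b, rfl⟩ := hθ y
      show Submodule.factor hIm (e.symm (θ b)) = φ₀.hom (θ b)
      rw [show e.symm (θ b) = Submodule.Quotient.mk b from (LinearEquiv.symm_apply_eq e).2 rfl,
        LinearMap.toSpanSingleton_apply, map_smul, hx, map_one]
      exact (mk_smul_one m b).symm)
    refine ⟨v, fun i => ?_, hdv⟩
    have hm := hv.map Tr g 1 rfl
    rw [hu] at hm
    have h1 : v₁ i - ringMap ξ (c.V i) 1 * v i ∈ m.map (ringMap ξ (c.V i)).hom :=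
      Rep.sub_mem Tr hV hLq hu₀ hm i
    rw [← hf0 (hV i), map_sub, map_mul, map_one, map_one, one_mul, hv₁, sub_eq_zero] at h1
    exact h1.symm
  -- and only modulo ideals containing `I`
  have hTJ : ∀ J ≤ m, TrivMod ξ c f v₀ J → I ≤ J := fun J hJ h => by
    obtain ⟨v, hv, hdv⟩ := h
    obtain ⟨s, hs⟩ := exists_rep Tr hcov J v hdv
    let g : ModuleCat.of A (A ⧸ J) ⟶ ModuleCat.of A (A ⧸ m) := ModuleCat.ofHom (Submodule.factor hJ)
    have hu : (CBC10.psi A L g).app ⊤ s = u₀ := (hs.map Tr g 1 rfl).unique Tr hcov hu₀ fun i =>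
      (hf0 (hV i) _).1 (by rw [map_sub, map_mul, map_one, map_one, one_mul, hv, hv₁, sub_self])
    obtain ⟨l, hl⟩ := Ideal.Quotient.mk_surjective ((E _ s).hom x)
    have h1 : g.hom ((E _ s).hom x) = Ideal.Quotient.mk m 1 := by
      rw [← hx]
      show (E _ s ≫ g).hom x = (E _ u₀).hom x
      rw [← hEnat, hu]
    have hlu : IsUnit l := IsLocalRing.notMem_maximalIdeal.1 fun hlm => by
      rw [← hl] at h1
      have h2 : Ideal.Quotient.mk m l = Ideal.Quotient.mk m 1 := h1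
      rw [Ideal.Quotient.eq_zero_iff_mem.2 hlm, map_one] at h2
      exact zero_ne_one h2
    intro a ha
    have h2 : (E _ s).hom (θ a) = 0 := by rw [show θ a = 0 from ha, map_zero]
    rw [LinearMap.toSpanSingleton_apply, map_smul, ← hl] at h2
    have h3 : a * l ∈ J := Ideal.Quotient.eq_zero_iff_mem.1 ((Submodule.Quotient.mk_smul J a l).trans h2)
    exact (Ideal.mul_unit_mem_iff_mem J hlu).1 h3
  -- small extensions
  obtain ⟨t, ht⟩ := hIfg
  change Ideal.span (t : Set A) = I at ht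
  have hti : ∀ e ∈ t, e ∈ I := fun e he => ht ▸ Ideal.subset_span he
  have hmI : TrivMod ξ c f v₀ (m * I) := by
    refine trivMod_span ξ c hcov hV hsq T T₀ ρ hρ j j₀ q hjq hj hτ hinj hv₀ hv₀u t
      (fun e he => hIm (hti e he)) (fun e he a ha => ?_) ?_
    · rw [mul_comm e]; exact Ideal.mul_mem_mul ha (hti e he)
    · rw [ht, sup_eq_right.2 Ideal.mul_le_right]
      exact hTI
  have hI0 : I = ⊥ := Submodule.eq_bot_of_le_smul_of_le_jacobson_bot m I ⟨t, ht⟩
    (hTJ _ Ideal.mul_le_left hmI) (by rw [IsLocalRing.jacobson_eq_maximalIdeal ⊥ bot_ne_top])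
  rw [hI0] at hTI
  exact trivial_of_trivMod_bot ξ c hsq hv₀u hcov hTI

include hsq hρ hjq hj hinj in
/-- An invertible module on a proper flat family over a local ring which is trivial on the closed fibre and on
slices detecting additive coboundaries of the closed fibre is trivial. -/
theorem isTriv_of_slices [IsProper ξ] [LocallyOfFinitePresentation ξ] [Surjective ξ] (hξ : ConstFibres ξ)
    {L : W.Modules} (hL : PicF.IsInvertible L)
    (hLτ : ∀ s, Nonempty ((Scheme.Modules.pullback (j s)).obj L ≅ Coh.structureModule (T s)))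
    (h₀ : Nonempty ((Scheme.Modules.pullback f).obj L ≅ Coh.structureModule W₀)) :
    Nonempty (L ≅ Coh.structureModule W) := by
  haveI : CompactSpace W := QuasiCompact.compactSpace_of_compactSpace ξ
  obtain ⟨n, c, hV, hcov, ⟨Tr⟩⟩ := exists_triv L hL
  obtain ⟨v₀, hv₀, hv₀u⟩ := (Tr.pull_iso_iff hcov f).1 h₀
  exact (Tr.iso_iff hcov).2 (trivial_of_slices ξ c hcov hV hsq T T₀ ρ hρ j j₀ q hjq hj
    (fun s => (Tr.pull_iso_iff hcov (j s)).1 (hLτ s)) hinj hv₀ hv₀u hξ hL Tr)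

end Groth.Agent.Seesaw22
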