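import Groth.Agent.Lib.Seesaw22.Global
import Groth.Agent.Lib.CubeField.Product

/-!
# The theorem of the cube over any base
-/

set_option autoImplicit false
set_option linter.style.haveILetI false
set_option linter.unusedSectionVars false
set_option backward.isDefEq.respectTransparency false
set_option maxHeartbeats 1000000

universe u

open CategoryTheory Limits AlgebraicGeometry TopologicalSpace Opposite

noncomputable section

namespace Groth.Agent.Seesaw22

open RigidRel CubeField

/-- Coboundaries restrict along a factorisation. -/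
theorem isCoboundary_of_factor {X Y Y' : Scheme.{u}} {α : Type} {V : α → X.Opens}
    {e : ∀ i i', Γ(X, V i ⊓ V i')} (φ : Y ⟶ X) (a : Y' ⟶ Y)
    (h : IsCoboundary (fun i => φ ⁻¹ᵁ V i) fun i i' => φ.app (V i ⊓ V i') (e i i')) :
    IsCoboundary (fun i => (a ≫ φ) ⁻¹ᵁ V i) fun i i' => (a ≫ φ).app (V i ⊓ V i') (e i i') :=
  h.pull a

/-- On a product over a field, slices through two points detect additive coboundaries. -/
theorem slicesDetect_of_prod {K : Type u} [Field K] {X Y W₀ : Scheme.{u}} (pX : X ⟶ Spec (CommRingCat.of K))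
    (pY : Y ⟶ Spec (CommRingCat.of K)) [IsProper pX] [GeometricallyConnected pX] [GeometricallyReduced pX]
    [IsProper pY] [GeometricallyConnected pY] [GeometricallyReduced pY]
    (q₁ : W₀ ⟶ X) (q₂ : W₀ ⟶ Y) (hsq : IsPullback q₁ q₂ pX pY)
    (x : Spec (CommRingCat.of K) ⟶ X) (hx : x ≫ pX = 𝟙 _) (y : Spec (CommRingCat.of K) ⟶ Y) (hy : y ≫ pY = 𝟙 _)
    {κ : Type} {T₀ : κ → Scheme.{u}} (j₀ : ∀ s, T₀ s ⟶ W₀) (s₁ s₂ : κ) (α : Y ⟶ T₀ s₁) (β : X ⟶ T₀ s₂)
    (hα₁ : α ≫ j₀ s₁ ≫ q₁ = pY ≫ x) (hα₂ : α ≫ j₀ s₁ ≫ q₂ = 𝟙 Y)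
    (hβ₁ : β ≫ j₀ s₂ ≫ q₁ = 𝟙 X) (hβ₂ : β ≫ j₀ s₂ ≫ q₂ = pX ≫ y) : SlicesDetect j₀ := by
  intro ι V hcov e he hs
  haveI : CompactSpace X := QuasiCompact.compactSpace_of_compactSpace pX
  haveI : CompactSpace Y := QuasiCompact.compactSpace_of_compactSpace pY
  haveI : Surjective pX := ⟨fun z => ⟨x z, by rw [← Scheme.Hom.comp_apply, hx]; rfl⟩⟩
  haveI : Surjective pY := ⟨fun z => ⟨y z, by rw [← Scheme.Hom.comp_apply, hy]; rfl⟩⟩
  haveI : IsProper q₂ := MorphismProperty.of_isPullback hsq ‹IsProper pX›
  haveI : Flat q₂ := MorphismProperty.of_isPullback hsq (inferInstance : Flat pX)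
  haveI : LocallyOfFinitePresentation q₂ :=
    MorphismProperty.of_isPullback hsq (inferInstance : LocallyOfFinitePresentation pX)
  haveI : Surjective q₂ := MorphismProperty.of_isPullback hsq ‹Surjective pX›
  have hq₂ : ConstFibres q₂ := fun L _ z => by
    have h1 : IsPullback (pullback.fst q₂ z ≫ q₁) (pullback.snd q₂ z) pX (z ≫ pY) :=
      (IsPullback.of_hasPullback q₂ z).paste_horiz hsq
    exact appTop_surjective_of_iso h1.isoPullback _ _ h1.isoPullback_hom_snd
      (constFibres_of_geometrically pX L _)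
  exact isCoboundary_of_slices pX pY q₁ q₂ hsq
    (bijective_ringMap pY (constFibres_of_geometrically pY)).2
    (fun U hU => bijective_app' q₂ hq₂ hU) (α ≫ j₀ s₁) (by rw [Category.assoc]; exact hα₂) x
    (by rw [Category.assoc]; exact hα₁) (β ≫ j₀ s₂) (by rw [Category.assoc]; exact hβ₁) y
    (by rw [Category.assoc]; exact hβ₂) hy V e he hcov
    (isCoboundary_of_factor _ α (hs s₁)) (isCoboundary_of_factor _ β (hs s₂))

section cube

variable {S X Y Z : Scheme.{u}} (pX : X ⟶ S) (pY : Y ⟶ S) (pZ : Z ⟶ S)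
  [Flat pX] [IsProper pX] [LocallyOfFinitePresentation pX] [GeometricallyIntegral pX]
  [Flat pY] [IsProper pY] [LocallyOfFinitePresentation pY] [GeometricallyIntegral pY]

/-- The product of the first two factors. -/
abbrev pP : pullback pX pY ⟶ S := pullback.fst pX pY ≫ pX

/-- The family of products. -/
abbrev proj : pullback (pP pX pY) pZ ⟶ Z := pullback.snd (pP pX pY) pZ

/-- The slice of `Y`. -/
abbrev slY (x : S ⟶ X) (hx : x ≫ pX = 𝟙 S) : Y ⟶ pullback pX pY :=
  pullback.lift (pY ≫ x) (𝟙 Y) (by rw [Category.assoc, hx, Category.comp_id, Category.id_comp])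

/-- The slice of `X`. -/
abbrev slX (y : S ⟶ Y) (hy : y ≫ pY = 𝟙 S) : X ⟶ pullback pX pY :=
  pullback.lift (𝟙 X) (pX ≫ y) (by rw [Category.assoc, hy, Category.comp_id, Category.id_comp])

theorem slY_pP (x : S ⟶ X) (hx : x ≫ pX = 𝟙 S) : slY pX pY x hx ≫ pP pX pY = pY := by
  rw [pullback.lift_fst_assoc, Category.assoc, hx, Category.comp_id]

theorem slX_pP (y : S ⟶ Y) (hy : y ≫ pY = 𝟙 S) : slX pX pY y hy ≫ pP pX pY = pX := by
  rw [pullback.lift_fst_assoc, Category.id_comp]

variable (x : S ⟶ X) (hx : x ≫ pX = 𝟙 S) (y : S ⟶ Y) (hy : y ≫ pY = 𝟙 S)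

/-- The two slices. -/
def sliceT : Bool → Scheme.{u}
  | true => pullback (slY pX pY x hx ≫ pP pX pY) pZ
  | false => pullback (slX pX pY y hy ≫ pP pX pY) pZ

/-- Their inclusions. -/
def sliceJ : ∀ b : Bool, sliceT pX pY pZ x hx y hy b ⟶ pullback (pP pX pY) pZ
  | true => pullback.map (slY pX pY x hx ≫ pP pX pY) pZ (pP pX pY) pZ (slY pX pY x hx) (𝟙 Z) (𝟙 S)
      (Category.comp_id _) ((Category.comp_id pZ).trans (Category.id_comp pZ).symm)
  | false => pullback.map (slX pX pY y hy ≫ pP pX pY) pZ (pP pX pY) pZ (slX pX pY y hy) (𝟙 Z) (𝟙 S)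
      (Category.comp_id _) ((Category.comp_id pZ).trans (Category.id_comp pZ).symm)

theorem sliceJ_true_proj : sliceJ pX pY pZ x hx y hy true ≫ proj pX pY pZ =
    pullback.snd (slY pX pY x hx ≫ pP pX pY) pZ := (pullback.lift_snd _ _ _).trans (Category.comp_id _)

theorem sliceJ_false_proj : sliceJ pX pY pZ x hx y hy false ≫ proj pX pY pZ =
    pullback.snd (slX pX pY y hy ≫ pP pX pY) pZ := (pullback.lift_snd _ _ _).trans (Category.comp_id _)

theorem constFibres_gi {P Q : Scheme.{u}} (f : P ⟶ Q) [IsProper f] [GeometricallyIntegral f] :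
    ConstFibres f :=
  haveI := CubeField.geometricallyConnected_of_irreducible f
  constFibres_of_geometrically f

theorem goodSlices : GoodSlices (proj pX pY pZ) (sliceJ pX pY pZ x hx y hy) := by
  have eY := slY_pP pX pY x hx
  have eX := slX_pP pX pY y hy
  haveI : IsProper (slY pX pY x hx ≫ pP pX pY) := by rw [eY]; infer_instance
  haveI : Flat (slY pX pY x hx ≫ pP pX pY) := by rw [eY]; infer_instance
  haveI : LocallyOfFinitePresentation (slY pX pY x hx ≫ pP pX pY) := by rw [eY]; infer_instance
  haveI : GeometricallyIntegral (slY pX pY x hx ≫ pP pX pY) := by rw [eY]; infer_instance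
  haveI : IsProper (slX pX pY y hy ≫ pP pX pY) := by rw [eX]; infer_instance
  haveI : Flat (slX pX pY y hy ≫ pP pX pY) := by rw [eX]; infer_instance
  haveI : LocallyOfFinitePresentation (slX pX pY y hy ≫ pP pX pY) := by rw [eX]; infer_instance
  haveI : GeometricallyIntegral (slX pX pY y hy ≫ pP pX pY) := by rw [eX]; infer_instance
  refine ⟨fun b => ?_, fun b => ?_, fun b => ?_, fun b => ?_, fun b => ?_, fun b => ?_⟩
  · cases b
    · let p : pullback (pP pX pY) pZ ⟶ pullback (slX pX pY y hy ≫ pP pX pY) pZ :=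
        pullback.lift (pullback.fst _ _ ≫ pullback.fst pX pY) (pullback.snd _ _)
          (by rw [eX, Category.assoc]; exact pullback.condition)
      haveI : IsSeparated (p ≫ pullback.snd (slX pX pY y hy ≫ pP pX pY) pZ) := by
        rw [pullback.lift_snd]; infer_instance
      haveI : IsSeparated p := IsSeparated.of_comp p (pullback.snd (slX pX pY y hy ≫ pP pX pY) pZ)
      exact CubeField.isAffineHom_of_section _ p (by apply pullback.hom_ext <;> simp [sliceJ, p, sliceT])
    · let p : pullback (pP pX pY) pZ ⟶ pullback (slY pX pY x hx ≫ pP pX pY) pZ :=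
        pullback.lift (pullback.fst _ _ ≫ pullback.snd pX pY) (pullback.snd _ _)
          (by rw [eY, Category.assoc, ← pullback.condition (f := pX)]; exact pullback.condition)
      haveI : IsSeparated (p ≫ pullback.snd (slY pX pY x hx ≫ pP pX pY) pZ) := by
        rw [pullback.lift_snd]; infer_instance
      haveI : IsSeparated p := IsSeparated.of_comp p (pullback.snd (slY pX pY x hx ≫ pP pX pY) pZ)
      exact CubeField.isAffineHom_of_section _ p (by apply pullback.hom_ext <;> simp [sliceJ, p, sliceT])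
  · cases b
    · rw [sliceJ_false_proj]; exact MorphismProperty.pullback_snd _ _ inferInstance
    · rw [sliceJ_true_proj]; exact MorphismProperty.pullback_snd _ _ inferInstance
  · cases b
    · rw [sliceJ_false_proj]; exact MorphismProperty.pullback_snd _ _ inferInstance
    · rw [sliceJ_true_proj]; exact MorphismProperty.pullback_snd _ _ inferInstance
  · cases b
    · rw [sliceJ_false_proj]; exact MorphismProperty.pullback_snd _ _ inferInstance
    · rw [sliceJ_true_proj]; exact MorphismProperty.pullback_snd _ _ inferInstance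
  · cases b
    · rw [sliceJ_false_proj]; exact MorphismProperty.pullback_snd _ _ inferInstance
    · rw [sliceJ_true_proj]; exact MorphismProperty.pullback_snd _ _ inferInstance
  · cases b
    · rw [sliceJ_false_proj]; exact (constFibres_gi _).baseChange _
    · rw [sliceJ_true_proj]; exact (constFibres_gi _).baseChange _

theorem detects : Detects (proj pX pY pZ) (sliceJ pX pY pZ x hx y hy) := by
  intro K _ φ
  let s : Spec (CommRingCat.of K) ⟶ S := φ ≫ pZ
  let W₀ := pullback (proj pX pY pZ) φ
  let a : W₀ ⟶ pullback pX pY := pullback.fst _ _ ≫ pullback.fst _ _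
  have hW : IsPullback a (pullback.snd (proj pX pY pZ) φ) (pP pX pY) s :=
    (IsPullback.of_hasPullback (proj pX pY pZ) φ).paste_horiz (IsPullback.of_hasPullback (pP pX pY) pZ)
  let q₁ : W₀ ⟶ pullback pX s :=
    pullback.lift (a ≫ pullback.fst pX pY) (pullback.snd _ φ) (by rw [Category.assoc]; exact hW.w)
  let q₂ : W₀ ⟶ pullback pY s :=
    pullback.lift (a ≫ pullback.snd pX pY) (pullback.snd _ φ)
      (by rw [Category.assoc, ← pullback.condition]; exact hW.w)
  have h1 : IsPullback a q₁ (pullback.fst pX pY) (pullback.fst pX s) :=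
    IsPullback.of_bot (by rw [pullback.lift_snd]; exact hW) (pullback.lift_fst _ _ _).symm
      (IsPullback.of_hasPullback pX s)
  have h2 : IsPullback (q₂ ≫ pullback.fst pY s) q₁ pY (pullback.snd pX s ≫ s) := by
    rw [pullback.lift_fst, ← pullback.condition]
    exact h1.paste_horiz (IsPullback.of_hasPullback pX pY).flip
  have hsq : IsPullback q₁ q₂ (pullback.snd pX s) (pullback.snd pY s) :=
    (IsPullback.of_right h2 (by rw [pullback.lift_snd, pullback.lift_snd]) (IsPullback.of_hasPullback pY s)).flip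
  haveI : GeometricallyIntegral (pullback.snd pX s) := inferInstance
  haveI : GeometricallyConnected (pullback.snd pX s) := CubeField.geometricallyConnected_of_irreducible _
  haveI : GeometricallyConnected (pullback.snd pY s) := CubeField.geometricallyConnected_of_irreducible _
  let xK : Spec (CommRingCat.of K) ⟶ pullback pX s := pullback.lift (s ≫ x) (𝟙 _) (by simp [hx])
  let yK : Spec (CommRingCat.of K) ⟶ pullback pY s := pullback.lift (s ≫ y) (𝟙 _) (by simp [hy])
  let tY : pullback pY s ⟶ sliceT pX pY pZ x hx y hy true :=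
    pullback.lift (pullback.fst pY s) (pullback.snd pY s ≫ φ)
      (by rw [slY_pP, Category.assoc]; exact pullback.condition)
  let tX : pullback pX s ⟶ sliceT pX pY pZ x hx y hy false :=
    pullback.lift (pullback.fst pX s) (pullback.snd pX s ≫ φ)
      (by rw [slX_pP, Category.assoc]; exact pullback.condition)
  let α : pullback pY s ⟶ pullback (sliceJ pX pY pZ x hx y hy true ≫ proj pX pY pZ) φ :=
    pullback.lift tY (pullback.snd pY s) (by rw [sliceJ_true_proj, pullback.lift_snd])
  let β : pullback pX s ⟶ pullback (sliceJ pX pY pZ x hx y hy false ≫ proj pX pY pZ) φ :=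
    pullback.lift tX (pullback.snd pX s) (by rw [sliceJ_false_proj, pullback.lift_snd])
  intro ι' V
  refine slicesDetect_of_prod (pullback.snd pX s) (pullback.snd pY s) q₁ q₂ hsq xK (pullback.lift_snd _ _ _) yK
    (pullback.lift_snd _ _ _) (T₀ := fun b => pullback (sliceJ pX pY pZ x hx y hy b ≫ proj pX pY pZ) φ) _
    true false α β ?_ ?_ ?_ ?_ V
  · ext
    · simp [α, q₁, a, tY, xK, sliceJ, sliceT, pullback.condition_assoc]
    · simp [α, q₁, xK, sliceJ, sliceT]
  · ext
    · simp [α, q₂, a, tY, sliceJ, sliceT]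
    · simp [α, q₂, sliceJ, sliceT]
  · ext
    · simp [β, q₁, a, tX, sliceJ, sliceT]
    · simp [β, q₁, sliceJ, sliceT]
  · ext
    · simp [β, q₂, a, tX, yK, sliceJ, sliceT, pullback.condition_assoc]
    · simp [β, q₂, yK, sliceJ, sliceT]

/-- The base point of the products. -/
abbrev baseSec : Z ⟶ pullback (pP pX pY) pZ :=
  pullback.lift (pullback.lift (pZ ≫ x) (pZ ≫ y) (by rw [Category.assoc, hx, Category.assoc, hy])) (𝟙 Z)
    (by rw [pullback.lift_fst_assoc, Category.assoc, hx, Category.comp_id, Category.id_comp])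

theorem baseSec_proj : baseSec pX pY pZ x hx y hy ≫ proj pX pY pZ = 𝟙 Z := pullback.lift_snd _ _ _

theorem baseSec_factor : pullback.lift (pZ ≫ y) (𝟙 Z)
    (by rw [slY_pP, Category.assoc, hy, Category.comp_id, Category.id_comp]) ≫ sliceJ pX pY pZ x hx y hy true =
      baseSec pX pY pZ x hx y hy := by
  apply pullback.hom_ext
  · apply pullback.hom_ext <;> simp [sliceJ, sliceT, reassoc_of% hy]
  · simp [sliceJ, sliceT]

theorem geometricallyIntegral_proj : GeometricallyIntegral (proj pX pY pZ) :=
  haveI := geometricallyIntegral_prod pX pY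
  inferInstance

variable {L : (pullback (pP pX pY) pZ).Modules} (hL : PicF.IsInvertible L)
  (hτ : ∀ b, IsTriv ((Scheme.Modules.pullback (sliceJ pX pY pZ x hx y hy b)).obj L))

include hτ in
theorem isTriv_baseSec : IsTriv ((Scheme.Modules.pullback (baseSec pX pY pZ x hx y hy)).obj L) :=
  isTriv_of_eq (baseSec_factor pX pY pZ x hx y hy) ((isTriv_comp_iff _ _ L).1 ((hτ true).pullback _))

include hL hτ in
/-- The theorem of the cube, clopen form. -/
theorem cube_clopen (z : Z) (h : IsTriv ((Scheme.Modules.pullback ((proj pX pY pZ).fiberι z)).obj L)) :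
    ∃ U : Z.Opens, IsClosed (U : Set Z) ∧ z ∈ U ∧
      IsTriv ((Scheme.Modules.pullback ((proj pX pY pZ) ⁻¹ᵁ U).ι).obj L) := by
  haveI := geometricallyIntegral_proj pX pY pZ
  exact exists_clopen (constFibres_gi _) (goodSlices pX pY pZ x hx y hy) (detects pX pY pZ x hx y hy) hL hτ
    (fun _ => inferInstance) _ (baseSec_proj pX pY pZ x hx y hy) (isTriv_baseSec pX pY pZ x hx y hy hτ) z h

include hL hτ in
/-- The theorem of the cube, when all fibres are trivial. -/
theorem cube_of_fibres (h : ∀ z, IsTriv ((Scheme.Modules.pullback ((proj pX pY pZ).fiberι z)).obj L)) :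
    IsTriv L := by
  haveI := geometricallyIntegral_proj pX pY pZ
  exact isTriv_of_fibres (constFibres_gi _) (goodSlices pX pY pZ x hx y hy) (detects pX pY pZ x hx y hy) hL hτ
    _ (baseSec_proj pX pY pZ x hx y hy) (isTriv_baseSec pX pY pZ x hx y hy hτ) h

end cube

end Groth.Agent.Seesaw22
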