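import Groth.Agent.Lib.Seesaw22.Artin
import Groth.Agent.Lib.Seesaw22.Corep
import Groth.Agent.Lib.CBC10.TensorSec

/-!
# Sections modulo an ideal in terms of transition functions
-/

set_option autoImplicit false
set_option linter.style.haveILetI false
set_option linter.unusedSectionVars false
set_option backward.isDefEq.respectTransparency false
set_option maxHeartbeats 1000000

universe u

open CategoryTheory Limits AlgebraicGeometry TopologicalSpace Opposite
open scoped TensorProduct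

noncomputable section

namespace Groth.Agent.Seesaw22

open RigidRel CubeField

attribute [local instance] CBC10.secA

variable {A : CommRingCat.{u}} {W : Scheme.{u}} [W.Over (Spec (CommRingCat.of A))]

/-- The structure morphism. -/
abbrev str : W ⟶ Spec A := W ↘ Spec (CommRingCat.of A)

theorem rho_eq (U : W.Opens) (a : A) : CBC10.ρ A U a = ringMap (str (W := W) (A := A)) U a := by
  refine Eq.trans ?_ (rs_ringMap (ξ := str (W := W) (A := A)) (le_top : U ≤ ⊤) a)
  rw [ringMap_top]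
  rfl

variable {ι : Type} {L : W.Modules} {c : Coc W ι} (T : Triv L c)

/-- The element of `Γ(L, U) ⊗ A/J` given by a function, for a generator `e`. -/
def modJ (J : Ideal A) {U : W.Opens} (e : Γ(L, U)) (x : Γ(W, U)) : Γ(L, U) ⊗[A] (A ⧸ J) :=
  (x • e) ⊗ₜ[A] (1 : A ⧸ J)

theorem modJ_add (J : Ideal A) {U : W.Opens} (e : Γ(L, U)) (x y : Γ(W, U)) :
    modJ J e (x + y) = modJ J e x + modJ J e y := by
  rw [modJ, add_smul, TensorProduct.add_tmul]
  rfl

theorem modJ_sub (J : Ideal A) {U : W.Opens} (e : Γ(L, U)) (x y : Γ(W, U)) :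
    modJ J e (x - y) = modJ J e x - modJ J e y := by
  rw [modJ, sub_smul, TensorProduct.sub_tmul]
  rfl

theorem modJ_eq_zero_of_mem (J : Ideal A) {U : W.Opens} (e : Γ(L, U)) {x : Γ(W, U)}
    (hx : x ∈ J.map (ringMap (str (W := W) (A := A)) U).hom) : modJ J e x = 0 := by
  suffices ∀ y : Γ(W, U), modJ J e (y * x) = 0 by simpa using this 1
  induction hx using Submodule.span_induction with
  | mem x hx =>
    obtain ⟨a, ha, rfl⟩ := hx
    intro y
    have h : (y * ringMap (str (W := W) (A := A)) U a) • e = a • (y • e) := by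
      rw [CBC10.secA_smul, rho_eq, mul_comm, mul_smul]
    show ((y * ringMap (str (W := W) (A := A)) U a) • e) ⊗ₜ[A] (1 : A ⧸ J) = 0
    rw [h, TensorProduct.smul_tmul,
      show a • (1 : A ⧸ J) = 0 from (Submodule.Quotient.mk_smul J a (1 : A)).symm.trans
        ((Submodule.Quotient.mk_eq_zero J).2 (by rw [smul_eq_mul, mul_one]; exact ha)), TensorProduct.tmul_zero]
  | zero => intro y; rw [mul_zero, modJ, zero_smul, TensorProduct.zero_tmul]
  | add a b _ _ ha hb => intro y; rw [mul_add, modJ_add, ha, hb, add_zero]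
  | smul r a _ ha => intro y; rw [smul_eq_mul, ← mul_assoc]; exact ha _

theorem mem_of_modJ_eq_zero (J : Ideal A) {U : W.Opens} {e : Γ(L, U)} (he : Twist.IsGen L U e) {x : Γ(W, U)}
    (hx : modJ J e x = 0) : x ∈ J.map (ringMap (str (W := W) (A := A)) U).hom := by
  have h1 : x • e ∈ J • (⊤ : Submodule A Γ(L, U)) := by
    have h2 := congrArg (TensorProduct.tensorQuotEquivQuotSMul Γ(L, U) J) hx
    rw [map_zero, modJ] at h2
    erw [TensorProduct.quotTensorEquivQuotSMul_mk_one_tmul, Submodule.Quotient.mk_eq_zero] at h2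
    exact h2
  have h3 : ∀ z ∈ J • (⊤ : Submodule A Γ(L, U)),
      ∃ y ∈ J.map (ringMap (str (W := W) (A := A)) U).hom, z = y • e := fun z hz => by
    refine Submodule.smul_induction_on hz (fun a ha z _ => ?_) fun z z' h h' => ?_
    · obtain ⟨y, hy⟩ := (he U le_rfl).2 z
      simp only [M1.mres_id] at hy
      refine ⟨ringMap (str (W := W) (A := A)) U a * y, Ideal.mul_mem_right _ _ (Ideal.mem_map_of_mem _ ha), ?_⟩
      rw [mul_smul, hy, CBC10.secA_smul, rho_eq]
    · obtain ⟨y, hy, rfl⟩ := h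
      obtain ⟨y', hy', rfl⟩ := h'
      exact ⟨y + y', add_mem hy hy', (add_smul _ _ _).symm⟩
  obtain ⟨y, hy, hxy⟩ := h3 _ h1
  rwa [show x = y from (he U le_rfl).1 (by simpa only [M1.mres_id] using hxy)]

theorem exists_modJ_eq (J : Ideal A) {U : W.Opens} {e : Γ(L, U)} (he : Twist.IsGen L U e)
    (z : Γ(L, U) ⊗[A] (A ⧸ J)) : ∃ x, modJ J e x = z := by
  induction z using TensorProduct.induction_on with
  | zero => exact ⟨0, by rw [modJ, zero_smul, TensorProduct.zero_tmul]⟩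
  | add a b ha hb =>
    obtain ⟨x, hx⟩ := ha
    obtain ⟨y, hy⟩ := hb
    exact ⟨x + y, by rw [modJ_add, hx, hy]⟩
  | tmul s m =>
    obtain ⟨a, rfl⟩ := Ideal.Quotient.mk_surjective m
    obtain ⟨x, hx⟩ := (he U le_rfl).2 s
    simp only [M1.mres_id] at hx
    refine ⟨ringMap (str (W := W) (A := A)) U a * x, ?_⟩
    rw [modJ, mul_smul, hx, ← rho_eq, ← CBC10.secA_smul, TensorProduct.smul_tmul]
    congr 1
    exact (Submodule.Quotient.mk_smul J a (1 : A)).symm.trans (by rw [smul_eq_mul, mul_one]; rfl)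

theorem resL_smul_gen (i j : ι) (x : Γ(W, c.V i)) :
    CBC10.resL A L (inf_le_left : c.V i ⊓ c.V j ≤ c.V i) (x • T.e i) =
      rs (inf_le_left : c.V i ⊓ c.V j ≤ c.V i) x •
        M1.mres L (inf_le_left : c.V i ⊓ c.V j ≤ c.V i) (T.e i) :=
  M1.mres_smul L _ _ _

theorem resL_smul_gen_right (i j : ι) (x : Γ(W, c.V j)) :
    CBC10.resL A L (inf_le_right : c.V i ⊓ c.V j ≤ c.V j) (x • T.e j) =
      (c.g i j * rs (inf_le_right : c.V i ⊓ c.V j ≤ c.V j) x) •
        M1.mres L (inf_le_left : c.V i ⊓ c.V j ≤ c.V i) (T.e i) := by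
  refine (M1.mres_smul L _ _ _).trans ?_
  rw [T.trans i j, ← mul_smul, mul_comm]

/-- The global section given by the family `v` modulo `J`. -/
def Rep (J : Ideal A) (v : ∀ i, Γ(W, c.V i))
    (s : Γ(CohIII.tensorA A L (ModuleCat.of A (A ⧸ J)), ⊤)) : Prop :=
  ∀ i, M1.mres _ (le_top : c.V i ≤ ⊤) s = CBC10.beta A L (ModuleCat.of A (A ⧸ J)) (c.V i) (modJ J (T.e i) (v i))

theorem res_beta (J : Ideal A) (v : ∀ i, Γ(W, c.V i)) (i j : ι) :
    M1.mres _ (inf_le_left : c.V i ⊓ c.V j ≤ c.V i)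
        (CBC10.beta A L (ModuleCat.of A (A ⧸ J)) (c.V i) (modJ J (T.e i) (v i))) -
      M1.mres _ (inf_le_right : c.V i ⊓ c.V j ≤ c.V j)
        (CBC10.beta A L (ModuleCat.of A (A ⧸ J)) (c.V j) (modJ J (T.e j) (v j))) =
      CBC10.beta A L (ModuleCat.of A (A ⧸ J)) (c.V i ⊓ c.V j)
        (modJ J (M1.mres L inf_le_left (T.e i)) (c.dd v i j)) := by
  have h1 := CBC10.beta_res A L (ModuleCat.of A (A ⧸ J)) (inf_le_left : c.V i ⊓ c.V j ≤ c.V i) (modJ J (T.e i) (v i))
  have h2 := CBC10.beta_res A L (ModuleCat.of A (A ⧸ J)) (inf_le_right : c.V i ⊓ c.V j ≤ c.V j) (modJ J (T.e j) (v j))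
  rw [Coc.dd, modJ_sub, map_sub]
  congr 1
  · refine h1.symm.trans (congrArg _ ?_)
    rw [modJ, LinearMap.rTensor_tmul, resL_smul_gen]
    rfl
  · refine h2.symm.trans (congrArg _ ?_)
    rw [modJ, LinearMap.rTensor_tmul, resL_smul_gen_right]
    rfl

variable (hcov : ⨆ i, c.V i = ⊤)

include hcov in
theorem exists_rep (J : Ideal A) (v : ∀ i, Γ(W, c.V i))
    (hd : ∀ i j, c.dd v i j ∈ J.map (ringMap (str (W := W) (A := A)) (c.V i ⊓ c.V j)).hom) :
    ∃ s, Rep T J v s := by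
  let G := CohIII.tensorA A L (ModuleCat.of A (A ⧸ J))
  obtain ⟨s, hs, -⟩ := TopCat.Sheaf.existsUnique_gluing' (⟨G.presheaf, G.isSheaf⟩ : TopCat.Sheaf AddCommGrpCat W)
    c.V ⊤ (fun i => homOfLE le_top) hcov.ge
    (fun i => CBC10.beta A L (ModuleCat.of A (A ⧸ J)) (c.V i) (modJ J (T.e i) (v i))) fun i j => by
      show M1.mres G inf_le_left _ = M1.mres G inf_le_right _
      rw [← sub_eq_zero]
      refine (res_beta T J v i j).trans ?_
      rw [modJ_eq_zero_of_mem J _ (hd i j), map_zero]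
  exact ⟨s, hs⟩

variable (hV : ∀ i, IsAffineOpen (c.V i)) (hI : ∀ i j, IsAffineOpen (c.V i ⊓ c.V j)) (hL : Coh.IsQCoh L)

include hV hI hL in
theorem exists_fam (J : Ideal A) (s : Γ(CohIII.tensorA A L (ModuleCat.of A (A ⧸ J)), ⊤)) :
    ∃ v, Rep T J v s ∧
      ∀ i j, c.dd v i j ∈ J.map (ringMap (str (W := W) (A := A)) (c.V i ⊓ c.V j)).hom := by
  choose z hz using fun i => (CBC10.bijective_beta A hL (ModuleCat.of A (A ⧸ J)) (hV i)).2
    (M1.mres _ (le_top : c.V i ≤ ⊤) s)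
  choose v hv using fun i => exists_modJ_eq J (T.gen i) (z i)
  have hrep : Rep T J v s := fun i => by rw [hv, hz]
  refine ⟨v, hrep, fun i j => ?_⟩
  have hb := (CBC10.bijective_beta A hL (ModuleCat.of A (A ⧸ J)) (hI i j)).1
  refine mem_of_modJ_eq_zero J (e := M1.mres L inf_le_left (T.e i)) ((T.gen i).mres _) (hb ?_)
  rw [map_zero, ← res_beta, ← hrep i, ← hrep j, sub_eq_zero]
  exact (M1.mres_mres _ _ _ _).trans (M1.mres_mres _ _ _ _).symm

include hcov in
theorem Rep.unique {J : Ideal A} {v v' : ∀ i, Γ(W, c.V i)} {s s'} (h : Rep T J v s) (h' : Rep T J v' s')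
    (hvv : ∀ i, v i - v' i ∈ J.map (ringMap (str (W := W) (A := A)) (c.V i)).hom) : s = s' := by
  refine TopCat.Sheaf.eq_of_locally_eq' (⟨(CohIII.tensorA A L (ModuleCat.of A (A ⧸ J))).presheaf,
    (CohIII.tensorA A L (ModuleCat.of A (A ⧸ J))).isSheaf⟩ : TopCat.Sheaf AddCommGrpCat W) c.V ⊤
    (fun i => homOfLE le_top) hcov.ge _ _ fun i => ?_
  show M1.mres _ le_top s = M1.mres _ le_top s'
  rw [h i, h' i]
  congr 1
  rw [← sub_eq_zero, ← modJ_sub]
  exact modJ_eq_zero_of_mem J _ (hvv i)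

include hV hL in
theorem Rep.sub_mem {J : Ideal A} {v v' : ∀ i, Γ(W, c.V i)} {s} (h : Rep T J v s) (h' : Rep T J v' s) (i : ι) :
    v i - v' i ∈ J.map (ringMap (str (W := W) (A := A)) (c.V i)).hom := by
  have hb := (CBC10.bijective_beta A hL (ModuleCat.of A (A ⧸ J)) (hV i)).1
  refine mem_of_modJ_eq_zero J (T.gen i) (hb ?_)
  rw [map_zero, modJ_sub, map_sub, ← h i, ← h' i, sub_self]

/-- Pushing a section along a linear map multiplying by `a`. -/
theorem Rep.map {J J' : Ideal A} {v : ∀ i, Γ(W, c.V i)} {s} (h : Rep T J v s)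
    (g : ModuleCat.of A (A ⧸ J) ⟶ ModuleCat.of A (A ⧸ J')) (a : A)
    (hg : g.hom (1 : A ⧸ J) = Ideal.Quotient.mk J' a) :
    Rep T J' (fun i => ringMap (str (W := W) (A := A)) (c.V i) a * v i) ((CBC10.psi A L g).app ⊤ s) := fun i => by
  refine ((M1.app_mres (CBC10.psi A L g) (le_top : c.V i ≤ ⊤) s).symm).trans ?_
  rw [h i]
  refine (CBC10.beta_map A L g (c.V i) _).trans (congrArg _ ?_)
  have hh : (ringMap (str (W := W) (A := A)) (c.V i) a * v i) • T.e i = a • (v i • T.e i) := by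
    rw [CBC10.secA_smul, rho_eq, mul_smul]
  have hq : a • (1 : A ⧸ J') = Ideal.Quotient.mk J' a :=
    (Submodule.Quotient.mk_smul J' a (1 : A)).symm.trans (by rw [smul_eq_mul, mul_one]; rfl)
  show g.hom.lTensor _ ((v i • T.e i) ⊗ₜ[A] (1 : A ⧸ J)) = _
  rw [LinearMap.lTensor_tmul, hg, ← hq]
  show _ = ((ringMap (str (W := W) (A := A)) (c.V i) a * v i) • T.e i) ⊗ₜ[A] (1 : A ⧸ J')
  rw [hh]
  exact (TensorProduct.smul_tmul a (v i • T.e i) (1 : A ⧸ J')).symm

end Groth.Agent.Seesaw22
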